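import Mathlib
import Cfsg.Agent.FastGrp
import Cfsg.Agent.Prune
set_option linter.all false
prune_inst 0x7f00000000000000000000000000000000000000000000000000000000000000000000000000000000000000000000000000000000000000000000000000000000000000000000000000000000000000003fffffffffffffffffffffffffffbeffbdffffffff
open scoped Cfsg.Agent.FastGrp

/-!
# Characteristic classes of subgroups with an odd parity invariant

`pairRel 𝒳 𝒴`: simultaneous conjugacy on `𝒳 × 𝒴`.
`DData S`: a set of subgroups of `S`, stable under all automorphisms, with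
`|𝒳| + #(𝒳 × 𝒳 / S)` odd.
`D2Data S`: two disjoint sets of subgroups permuted by the automorphisms.
-/

set_option autoImplicit false

namespace Cfsg.Agent.H694

variable {S : Type*} [Group S]

theorem map_conj_one (H : Subgroup S) : H.map (MulAut.conj (1 : S)).toMonoidHom = H := by
  convert Subgroup.map_id H
  ext z
  simp

theorem map_conj_conj (g t : S) (H : Subgroup S) :
    (H.map (MulAut.conj g).toMonoidHom).map (MulAut.conj t).toMonoidHom =
      H.map (MulAut.conj (t * g)).toMonoidHom := by
  rw [Subgroup.map_map]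
  congr 1
  ext z
  simp [mul_assoc]

/-- simultaneous conjugacy of pairs -/
def pairRel (𝒳 𝒴 : Set (Subgroup S)) : Setoid (𝒳 × 𝒴) where
  r x y := ∃ g : S, (x.1 : Subgroup S).map (MulAut.conj g).toMonoidHom = y.1 ∧
    (x.2 : Subgroup S).map (MulAut.conj g).toMonoidHom = y.2
  iseqv :=
    { refl := fun x => ⟨1, map_conj_one _, map_conj_one _⟩
      symm := by
        rintro x y ⟨g, h1, h2⟩
        refine ⟨g⁻¹, ?_, ?_⟩
        · rw [← h1, map_conj_conj, inv_mul_cancel, map_conj_one]
        · rw [← h2, map_conj_conj, inv_mul_cancel, map_conj_one]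
      trans := by
        rintro x y z ⟨g, h1, h2⟩ ⟨t, h3, h4⟩
        exact ⟨t * g, by rw [← map_conj_conj, h1, h3], by rw [← map_conj_conj, h2, h4]⟩ }

/-- A set of subgroups, stable under all automorphisms, with an odd parity invariant. -/
def DData (S : Type*) [Group S] : Prop :=
  ∃ 𝒳 : Set (Subgroup S), (∀ α : S ≃* S, ∀ H ∈ 𝒳, H.map α.toMonoidHom ∈ 𝒳) ∧
    Odd (Nat.card 𝒳 + Nat.card (Quotient (pairRel 𝒳 𝒳)))

/-- Two disjoint sets of subgroups permuted by the automorphisms, with odd parity invariants. -/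
def D2Data (S : Type*) [Group S] : Prop :=
  ∃ 𝒳 𝒴 : Set (Subgroup S), Disjoint 𝒳 𝒴 ∧ 𝒳.Nonempty ∧
    (∀ g : S, ∀ H ∈ 𝒳, H.map (MulAut.conj g).toMonoidHom ∈ 𝒳) ∧
    (∀ α : S ≃* S, ((∀ H ∈ 𝒳, H.map α.toMonoidHom ∈ 𝒳) ∧ (∀ H ∈ 𝒴, H.map α.toMonoidHom ∈ 𝒴)) ∨
      ((∀ H ∈ 𝒳, H.map α.toMonoidHom ∈ 𝒴) ∧ (∀ H ∈ 𝒴, H.map α.toMonoidHom ∈ 𝒳))) ∧
    Odd (Nat.card 𝒳 + Nat.card (Quotient (pairRel 𝒳 𝒳))) ∧
    Odd (Nat.card (Quotient (pairRel 𝒳 𝒳)) + Nat.card (Quotient (pairRel 𝒳 𝒴)))

/-- the conjugacy class of a subgroup -/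
def cls (P : Subgroup S) : Set (Subgroup S) := {H | ∃ g : S, P.map (MulAut.conj g).toMonoidHom = H}

theorem conj_mem_cls {P H : Subgroup S} (hH : H ∈ cls P) (g : S) :
    H.map (MulAut.conj g).toMonoidHom ∈ cls P := by
  obtain ⟨t, rfl⟩ := hH
  exact ⟨g * t, (map_conj_conj t g P).symm⟩

theorem map_conj_eq_iff {P : Subgroup S} (hP : Subgroup.normalizer (P : Set S) = P) (g t : S) :
    P.map (MulAut.conj g).toMonoidHom = P.map (MulAut.conj t).toMonoidHom ↔ g⁻¹ * t ∈ P := by
  have h1 : P.map (MulAut.conj g).toMonoidHom = P.map (MulAut.conj t).toMonoidHom ↔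
      P.map (MulAut.conj (g⁻¹ * t)).toMonoidHom = P := by
    constructor
    · intro h
      rw [← map_conj_conj, ← h, map_conj_conj, inv_mul_cancel, map_conj_one]
    · intro h
      have h2 := congrArg (fun Q : Subgroup S => Q.map (MulAut.conj g).toMonoidHom) h
      simp only [map_conj_conj, mul_inv_cancel_left] at h2
      exact h2.symm
  rw [h1]
  nth_rewrite 3 [← hP]
  rw [Subgroup.mem_normalizer_iff]
  constructor
  · intro h x
    constructor
    · intro hx
      rw [← h]
      exact ⟨x, hx, rfl⟩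
    · intro hx
      rw [← h] at hx
      obtain ⟨y, hy, hyx⟩ := hx
      simp only [MulEquiv.coe_toMonoidHom, MulAut.conj_apply] at hyx
      have : y = x := by simpa using hyx
      rwa [← this]
  · intro h
    ext x
    constructor
    · rintro ⟨y, hy, rfl⟩
      exact (h y).1 hy
    · intro hx
      refine ⟨(g⁻¹ * t)⁻¹ * x * (g⁻¹ * t), ?_, ?_⟩
      · apply (h _).2
        have : g⁻¹ * t * ((g⁻¹ * t)⁻¹ * x * (g⁻¹ * t)) * (g⁻¹ * t)⁻¹ = x := by group
        rw [this]
        exact hx
      · simp only [MulEquiv.coe_toMonoidHom, MulAut.conj_apply]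
        group

/-- The class of a self-normalizing subgroup. -/
noncomputable def clsEquiv {P : Subgroup S} (hP : Subgroup.normalizer (P : Set S) = P) :
    S ⧸ P ≃ cls P := by
  refine Equiv.ofBijective (Quotient.lift (fun g : S =>
    (⟨P.map (MulAut.conj g).toMonoidHom, g, rfl⟩ : cls P)) ?_) ⟨?_, ?_⟩
  · intro a b hab
    exact Subtype.ext ((map_conj_eq_iff hP a b).2 (QuotientGroup.leftRel_apply.1 hab))
  · intro a b
    induction a using QuotientGroup.induction_on with
    | _ a =>
    induction b using QuotientGroup.induction_on with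
    | _ b =>
    intro h
    exact QuotientGroup.eq.2 ((map_conj_eq_iff hP a b).1 (congrArg Subtype.val h))
  · rintro ⟨_, g, rfl⟩
    exact ⟨QuotientGroup.mk g, rfl⟩

theorem card_cls {P : Subgroup S} (hP : Subgroup.normalizer (P : Set S) = P) :
    Nat.card (cls P) = P.index := by
  rw [← Nat.card_congr (clsEquiv hP)]
  rfl

/-- Orbits of pairs and double cosets. -/
theorem card_pairRel {P Q : Subgroup S} (hP : Subgroup.normalizer (P : Set S) = P)
    (hQ : Subgroup.normalizer (Q : Set S) = Q) :
    Nat.card (Quotient (pairRel (cls P) (cls Q))) =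
      Nat.card (DoubleCoset.Quotient (P : Set S) (Q : Set S)) := by
  symm
  let f : S → Quotient (pairRel (cls P) (cls Q)) := fun g =>
    Quotient.mk _ (⟨P, 1, map_conj_one P⟩, ⟨Q.map (MulAut.conj g).toMonoidHom, g, rfl⟩)
  have hf : ∀ a b : S, f a = f b ↔ DoubleCoset.setoid (P : Set S) (Q : Set S) a b := by
    intro a b
    rw [DoubleCoset.rel_iff, Quotient.eq]
    constructor
    · rintro ⟨g, h1, h2⟩
      have h3 : g ∈ P := by
        have h4 : P.map (MulAut.conj (1 : S)).toMonoidHom = P.map (MulAut.conj g).toMonoidHom := by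
          rw [map_conj_one]
          exact h1.symm
        have h5 := (map_conj_eq_iff hP 1 g).1 h4
        rwa [inv_one, one_mul] at h5
      have h4 : Q.map (MulAut.conj (g * a)).toMonoidHom = Q.map (MulAut.conj b).toMonoidHom := by
        rw [← map_conj_conj]
        exact h2
      refine ⟨g, h3, _, (map_conj_eq_iff hQ _ _).1 h4, ?_⟩
      group
    · rintro ⟨g, hg, q, hq, rfl⟩
      refine ⟨g, ?_, ?_⟩
      · show P.map _ = P
        conv_rhs => rw [← map_conj_one P]
        refine (map_conj_eq_iff hP _ _).2 ?_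
        rw [mul_one]
        exact inv_mem hg
      · show (Q.map (MulAut.conj a).toMonoidHom).map _ = Q.map _
        rw [map_conj_conj]
        refine (map_conj_eq_iff hQ _ _).2 ?_
        have : (g * a)⁻¹ * (g * a * q) = q := by group
        rwa [this]
  refine Nat.card_congr (Equiv.ofBijective (Quotient.lift f fun a b h => (hf a b).2 h) ⟨?_, ?_⟩)
  · intro a b
    induction a using Quotient.inductionOn with
    | _ a =>
    induction b using Quotient.inductionOn with
    | _ b =>
    intro h
    exact Quotient.sound ((hf a b).1 h)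
  · intro x
    induction x using Quotient.inductionOn with
    | _ x =>
    obtain ⟨⟨_, g, rfl⟩, ⟨_, t, rfl⟩⟩ := x
    refine ⟨Quotient.mk _ (g⁻¹ * t), Quotient.sound ⟨g, ?_, ?_⟩⟩
    · rfl
    · show (Q.map (MulAut.conj (g⁻¹ * t)).toMonoidHom).map _ = Q.map _
      rw [map_conj_conj, mul_inv_cancel_left]

/-- Data from a self-normalizing subgroup mapped to its conjugates by all automorphisms. -/
theorem dData_of_subgroup {P : Subgroup S} (hP : Subgroup.normalizer (P : Set S) = P)
    (hα : ∀ α : S ≃* S, ∃ g : S, P.map α.toMonoidHom = P.map (MulAut.conj g).toMonoidHom)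
    (hodd : Odd (P.index + Nat.card (DoubleCoset.Quotient (P : Set S) (P : Set S)))) :
    DData S := by
  refine ⟨cls P, ?_, ?_⟩
  · rintro α _ ⟨t, rfl⟩
    obtain ⟨g, hg⟩ := hα α
    refine ⟨α t * g, ?_⟩
    rw [← map_conj_conj, ← hg, Subgroup.map_map, Subgroup.map_map]
    congr 1
    ext x
    simp
  · rw [card_cls hP, card_pairRel hP hP]
    exact hodd

/-- Transport along an isomorphism. -/
theorem map_map_symm {T : Type*} [Group T] (e : S ≃* T) (H : Subgroup S) :
    (H.map e.toMonoidHom).map e.symm.toMonoidHom = H := by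
  rw [Subgroup.map_map]
  convert Subgroup.map_id H
  ext z
  simp

theorem map_symm_map {T : Type*} [Group T] (e : S ≃* T) (H : Subgroup T) :
    (H.map e.symm.toMonoidHom).map e.toMonoidHom = H := by
  rw [Subgroup.map_map]
  convert Subgroup.map_id H
  ext z
  simp

end Cfsg.Agent.H694
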