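import Cfsg.Agent.H694.DData
import Cfsg.Agent.OddHalf.Table.AutBldg
import Cfsg.Agent.S0310
import Cfsg.Agent.S0312
import Cfsg.Agent.FastGrp
import Cfsg.Agent.Prune
set_option linter.all false
prune_inst 0x7f00000000000000000000000000000000000000000000000000000000000000000000000000000000000000000000000000000000000000000000000000000000000000000000000000000000000000003fffffffffffffffffffffffffffbeffbdffffffff
open scoped Cfsg.Agent.FastGrp

/-!
# Parabolic subgroups of a split (B, N)-pair: parity of the index, double cosets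
-/

set_option autoImplicit false

namespace Cfsg.Agent.H694

open Cfsg Cfsg.Agent.LieExceptional.BNPairCore Cfsg.Agent.Tits.Core Cfsg.Agent.Tits.Core.Bldg
  Cfsg.Agent.Tits.OfBN Cfsg.Agent.Schreier.BNSch Cfsg.Agent.Tits.OppRes Cfsg.Agent.FixBN
  Cfsg.Agent.FixBN.TwOfBN Cfsg.Agent.OddHalf.Table.AutBldg

variable {K : Type*} [Group K] {P : Cfsg.BNPair K}

section

variable [hN : ((P.B ⊓ P.N).subgroupOf P.N).Normal]
variable {I : Type*} {M : CoxeterMatrix I} (e : I ≃ P.S) (cs : CoxeterSystem M (WP P))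
  (hcs : ∀ i, cs.simple i = QuotientGroup.mk (⟨(e i : K), P.subset (e i).2⟩ : P.N))

/-- the standard parabolic subgroup of type `J` -/
def PJ (P : Cfsg.BNPair K) {I : Type*} (e : I ≃ P.S) (J : Set I) : Subgroup K :=
  P.parabolic ((fun i => (e i : K)) '' J)

omit hN in
theorem PJ_sub (J : Set I) : ((fun i => (e i : K)) '' J) ⊆ P.S := by
  rintro _ ⟨i, -, rfl⟩
  exact (e i).2

include hcs

theorem mem_PJ {J : Set I} {g : K} : g ∈ PJ P e J ↔ wt P g ∈ WJ cs J := by
  unfold PJ
  rw [Cfsg.Agent.S0310.result P (PJ_sub e J)]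
  constructor
  · rintro ⟨n, hn, hg⟩
    have h1 : ∃ h : n ∈ P.N, (QuotientGroup.mk (⟨n, h⟩ : P.N) : WP P) ∈ WJ cs J := by
      clear hg
      induction hn using Subgroup.closure_induction with
      | mem x hx =>
        obtain ⟨i, hi, rfl⟩ := hx
        refine ⟨P.subset (e i).2, ?_⟩
        rw [← hcs]
        exact simple_mem_WJ hi
      | one => exact ⟨one_mem _, one_mem _⟩
      | mul x y _ _ hx hy =>
        obtain ⟨h1, h2⟩ := hx
        obtain ⟨h3, h4⟩ := hy
        exact ⟨mul_mem h1 h3, mul_mem h2 h4⟩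
      | inv x _ hx =>
        obtain ⟨h1, h2⟩ := hx
        exact ⟨inv_mem h1, inv_mem h2⟩
    obtain ⟨h1, h2⟩ := h1
    have h3 : wt P g = QuotientGroup.mk (⟨n, h1⟩ : P.N) := wt_of_mem P (by
      rw [mem_C]
      obtain ⟨b, hb, b', hb', h⟩ := DoubleCoset.mem_doubleCoset.1 hg
      exact ⟨b, hb, b', hb', h⟩)
    rw [h3]
    exact h2
  · intro h
    have h1 : ∀ w ∈ WJ cs J, ∃ n : P.N, (n : K) ∈ Subgroup.closure ((fun i => (e i : K)) '' J) ∧
        (QuotientGroup.mk n : WP P) = w := by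
      intro w hw
      induction hw using Subgroup.closure_induction with
      | mem x hx =>
        obtain ⟨i, hi, rfl⟩ := hx
        exact ⟨⟨(e i : K), P.subset (e i).2⟩, Subgroup.subset_closure ⟨i, hi, rfl⟩, (hcs i).symm⟩
      | one => exact ⟨1, one_mem _, rfl⟩
      | mul x y _ _ hx hy =>
        obtain ⟨n, h1, rfl⟩ := hx
        obtain ⟨m, h2, rfl⟩ := hy
        exact ⟨n * m, mul_mem h1 h2, rfl⟩
      | inv x _ hx =>
        obtain ⟨n, h1, rfl⟩ := hx
        exact ⟨n⁻¹, inv_mem h1, rfl⟩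
    obtain ⟨n, hn, h2⟩ := h1 _ h
    refine ⟨n, hn, ?_⟩
    obtain ⟨b, hb, b', hb', h3⟩ := mem_C.1 (mem_C_of_wt P h2.symm)
    exact DoubleCoset.mem_doubleCoset.2 ⟨b, hb, b', hb', h3⟩

omit hN hcs in
theorem normalizer_PJ (J : Set I) : Subgroup.normalizer (PJ P e J : Set K) = PJ P e J :=
  Cfsg.Agent.S0312.result P (PJ_sub e J)

omit hN hcs in
theorem B_le_PJ (J : Set I) : P.B ≤ PJ P e J := le_sup_left

variable [Finite K]

omit [Finite K] in
/-- `wt (g h) ∈ wt g · W_J` for `h ∈ P_J`. -/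
theorem wt_mul_mem [Cox cs] {J : Set I} {g h : K} (hh : h ∈ PJ P e J) :
    (wt P g)⁻¹ * wt P (g * h) ∈ WJ cs J := by
  have h1 := delta_coset (Δ := bldg P e cs hcs) (J := J) (QuotientGroup.mk 1 : K ⧸ P.B)
    (y := QuotientGroup.mk g) (z := QuotientGroup.mk (g * h)) (by
      rw [bldg_δ_mk, inv_mul_cancel_left]
      exact (mem_PJ e cs hcs).1 hh)
  rwa [bldg_δ_mk, bldg_δ_mk, inv_one, one_mul, one_mul] at h1

omit [Finite K] in
theorem wt_inv [Cox cs] (g : K) : wt P g⁻¹ = (wt P g)⁻¹ := by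
  have h1 := (bldg P e cs hcs).symm (QuotientGroup.mk 1 : K ⧸ P.B) (QuotientGroup.mk g)
  rwa [bldg_δ_mk, bldg_δ_mk, inv_one, one_mul, mul_one] at h1

omit [Finite K] in
theorem exists_wt_mul [Cox cs] {J : Set I} (g : K) {v : WP P} (hv : v ∈ WJ cs J) :
    ∃ h ∈ PJ P e J, wt P (g * h) = wt P g * v := by
  have key : ∀ (g : K) (i : I), i ∈ J → ∃ h ∈ PJ P e J, wt P (g * h) = wt P g * cs.simple i := by
    intro g i hi
    obtain ⟨z, hz1, hz2⟩ := (bldg P e cs hcs).exists_step (QuotientGroup.mk 1 : K ⧸ P.B)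
      (QuotientGroup.mk g) i
    obtain ⟨t, rfl⟩ := QuotientGroup.mk_surjective z
    rw [bldg_δ_mk] at hz1
    rw [bldg_δ_mk, bldg_δ_mk, inv_one, one_mul, one_mul] at hz2
    refine ⟨g⁻¹ * t, ?_, ?_⟩
    · rw [mem_PJ e cs hcs, hz1]
      exact simple_mem_WJ hi
    · rw [mul_inv_cancel_left]
      exact hz2
  induction hv using Subgroup.closure_induction_right with
  | one => exact ⟨1, one_mem _, by rw [mul_one, mul_one]⟩
  | mul_right x y _ hy ih =>
    obtain ⟨h, hh, h1⟩ := ih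
    obtain ⟨i, hi, rfl⟩ := hy
    obtain ⟨h', hh', h2⟩ := key (g * h) i hi
    exact ⟨h * h', mul_mem hh hh', by rw [← mul_assoc, h2, h1, mul_assoc]⟩
  | mul_inv_cancel x y _ hy ih =>
    obtain ⟨h, hh, h1⟩ := ih
    obtain ⟨i, hi, rfl⟩ := hy
    obtain ⟨h', hh', h2⟩ := key (g * h) i hi
    exact ⟨h * h', mul_mem hh hh', by rw [← mul_assoc, h2, h1, cs.inv_simple, mul_assoc]⟩

omit [Finite K] in
/-- Double cosets of parabolic subgroups. -/
theorem mem_double [Cox cs] {J L : Set I} {g g' : K} :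
    (∃ a ∈ PJ P e J, ∃ b ∈ PJ P e L, g' = a * g * b) ↔
      ∃ v ∈ WJ cs J, ∃ w ∈ WJ cs L, wt P g' = v * wt P g * w := by
  constructor
  · rintro ⟨a, ha, b, hb, rfl⟩
    have h1 := wt_mul_mem e cs hcs (g := a * g) hb
    have h2 := wt_mul_mem e cs hcs (g := g⁻¹) (inv_mem ha)
    rw [wt_inv e cs hcs, inv_inv, ← mul_inv_rev, wt_inv e cs hcs] at h2
    refine ⟨wt P (a * g) * (wt P g)⁻¹, ?_, (wt P (a * g))⁻¹ * wt P (a * g * b), h1, by group⟩
    have h3 := inv_mem h2
    rwa [mul_inv_rev, inv_inv] at h3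
  · rintro ⟨v, hv, w, hw, h⟩
    obtain ⟨b, hb, h1⟩ := exists_wt_mul e cs hcs g hw
    obtain ⟨a, ha, h2⟩ := exists_wt_mul e cs hcs (g * b)⁻¹ (inv_mem hv)
    have h3 : wt P (a⁻¹ * (g * b)) = v * wt P g * w := by
      have h4 : a⁻¹ * (g * b) = ((g * b)⁻¹ * a)⁻¹ := by group
      rw [h4, wt_inv e cs hcs, h2, mul_inv_rev, inv_inv, wt_inv e cs hcs, inv_inv, h1, mul_assoc]
    rw [← h] at h3
    obtain ⟨c, hc, d, hd, h5⟩ := wt_eq_wt_iff.1 h3
    refine ⟨c * a⁻¹, mul_mem (B_le_PJ e J hc) (inv_mem ha), b * d,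
      mul_mem hb (B_le_PJ e L hd), ?_⟩
    rw [h5]
    group

omit [Finite K] in
theorem card_double [Cox cs] (J L : Set I) :
    Nat.card (DoubleCoset.Quotient (PJ P e J : Set K) (PJ P e L : Set K)) =
      Nat.card (DoubleCoset.Quotient (WJ cs J : Set (WP P)) (WJ cs L : Set (WP P))) := by
  have hf : ∀ a b : K, DoubleCoset.setoid (PJ P e J : Set K) (PJ P e L : Set K) a b ↔
      DoubleCoset.setoid (WJ cs J : Set (WP P)) (WJ cs L : Set (WP P)) (wt P a) (wt P b) := by
    intro a b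
    rw [DoubleCoset.rel_iff, DoubleCoset.rel_iff]
    exact mem_double e cs hcs
  refine Nat.card_congr (Equiv.ofBijective (Quotient.map (wt P) fun a b h => (hf a b).1 h) ⟨?_, ?_⟩)
  · intro a b
    induction a using Quotient.inductionOn with
    | _ a =>
    induction b using Quotient.inductionOn with
    | _ b =>
    intro h
    exact Quotient.sound ((hf a b).2 (Quotient.exact h))
  · intro x
    induction x using Quotient.inductionOn with
    | _ w =>
    obtain ⟨g, rfl⟩ := exists_wt w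
    exact ⟨Quotient.mk _ g, rfl⟩

/-- The parity of the index of a parabolic subgroup in odd characteristic. -/
theorem index_mod [Finite I] {p : ℕ} [Fact p.Prime] (hp : Odd p) {U : Subgroup K} (S : Split P p U)
    (J : Set I) : (PJ P e J).index % 2 = (WJ cs J).index % 2 := by
  classical
  have hC : Cox cs := inferInstance
  -- the map onto the cosets of `W_J`
  let F : K ⧸ PJ P e J → WP P ⧸ WJ cs J := Quotient.lift
    (fun g : K => (QuotientGroup.mk (wt P g) : WP P ⧸ WJ cs J)) (fun a b h => by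
      have h1 : a⁻¹ * b ∈ PJ P e J := QuotientGroup.leftRel_apply.1 h
      have h2 := wt_mul_mem e cs hcs (g := a) h1
      rw [mul_inv_cancel_left] at h2
      exact QuotientGroup.eq.2 h2)
  have hF : ∀ g : K, F (QuotientGroup.mk g) = QuotientGroup.mk (wt P g) := fun g => rfl
  have hfib : ∀ c : WP P ⧸ WJ cs J, Odd (Nat.card {x : K ⧸ PJ P e J // F x = c}) := by
    intro c
    obtain ⟨w, rfl⟩ := QuotientGroup.mk_surjective c
    obtain ⟨g, rfl⟩ := exists_wt w
    -- the fibre is an orbit of `U`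
    have h1 : ∀ x : K ⧸ PJ P e J, F x = QuotientGroup.mk (wt P g) ↔
        x ∈ MulAction.orbit U (QuotientGroup.mk g : K ⧸ PJ P e J) := by
      intro x
      obtain ⟨t, rfl⟩ := QuotientGroup.mk_surjective x
      rw [hF]
      constructor
      · intro h
        have h2 : (wt P g)⁻¹ * wt P t ∈ WJ cs J := QuotientGroup.eq.1 h.symm
        obtain ⟨b, hb, h3⟩ := exists_wt_mul e cs hcs g h2
        rw [mul_inv_cancel_left] at h3
        obtain ⟨u, hu, h4⟩ := OfBN.trans S (x := (QuotientGroup.mk 1 : K ⧸ P.B))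
          (y := QuotientGroup.mk (g * b)) (z := QuotientGroup.mk t) (by
            rw [dist_mk, dist_mk, inv_one, one_mul, one_mul, h3])
        have hu' : u ∈ U := by
          have := (OfBN.mem_UU S).1 hu
          simpa using this
        refine ⟨⟨u, hu'⟩, ?_⟩
        have h5 : (u * (g * b))⁻¹ * t ∈ P.B := QuotientGroup.eq.1 h4
        show (QuotientGroup.mk (u * g) : K ⧸ PJ P e J) = QuotientGroup.mk t
        rw [QuotientGroup.eq]
        have h6 : (u * g)⁻¹ * t = b * ((u * (g * b))⁻¹ * t) := by group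
        rw [h6]
        exact mul_mem hb (B_le_PJ e J h5)
      · rintro ⟨u, hu⟩
        have h2 : (QuotientGroup.mk ((u : K) * g) : K ⧸ PJ P e J) = QuotientGroup.mk t := hu
        rw [← hF, ← h2, hF, wt_mul_left P g (S.le u.2)]
    have h2 : Nat.card {x : K ⧸ PJ P e J // F x = QuotientGroup.mk (wt P g)} =
        Nat.card (MulAction.orbit U (QuotientGroup.mk g : K ⧸ PJ P e J)) :=
      Nat.card_congr (Equiv.subtypeEquivRight h1)
    rw [h2]
    have h3 : Nat.card (MulAction.orbit U (QuotientGroup.mk g : K ⧸ PJ P e J)) ∣ Nat.card U := by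
      rw [Nat.card_congr (MulAction.orbitEquivQuotientStabilizer U
        (QuotientGroup.mk g : K ⧸ PJ P e J))]
      exact Subgroup.index_dvd_card _
    obtain ⟨n, hn⟩ := IsPGroup.iff_card.1 S.isP
    rw [hn] at h3
    exact (hp.pow (n := n)).of_dvd_nat h3
  have hfin : Finite (WP P ⧸ WJ cs J) := inferInstance
  have := Fintype.ofFinite (WP P ⧸ WJ cs J)
  have := Fintype.ofFinite (K ⧸ PJ P e J)
  have h1 : (PJ P e J).index = ∑ c : WP P ⧸ WJ cs J, Nat.card {x : K ⧸ PJ P e J // F x = c} := by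
    rw [Subgroup.index, ← Nat.card_sigma]
    exact (Nat.card_congr (Equiv.sigmaFiberEquiv F)).symm
  rw [h1, Finset.sum_nat_mod]
  have h2 : ∀ c ∈ (Finset.univ : Finset (WP P ⧸ WJ cs J)),
      Nat.card {x : K ⧸ PJ P e J // F x = c} % 2 = 1 := fun c _ => Nat.odd_iff.1 (hfib c)
  rw [Finset.sum_congr rfl h2, Finset.sum_const, smul_eq_mul, mul_one, Finset.card_univ,
    ← Nat.card_eq_fintype_card]
  rfl

/-- Automorphisms permute the types of the parabolic subgroups. -/
theorem exists_type_perm [Finite I] {p : ℕ} [Fact p.Prime] {U : Subgroup K} (S : Split P p U)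
    (α : K ≃* K) : ∃ σ : I ≃ I, (∀ i j, M (σ i) (σ j) = M i j) ∧ ∀ J : Set I, ∃ g : K,
      (PJ P e J).map α.toMonoidHom = (PJ P e (σ '' J)).map (MulAut.conj g).toMonoidHom := by
  have hC : Cox cs := inferInstance
  obtain ⟨g, hg⟩ := exists_conj_keep S (α : MulAut K)
  have hinj := sg_injective e cs hcs hg
  refine ⟨Equiv.ofBijective _ (Finite.injective_iff_bijective.1 hinj), fun i j =>
    sg_M e cs hcs hg i j, fun J => ⟨g⁻¹, ?_⟩⟩
  set β : MulAut K := MulAut.conj g * α with hβ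
  have h1 : (PJ P e J).map β.toMonoidHom = PJ P e (sg e cs hcs hg '' J) := by
    have h2 : ∀ x, x ∈ PJ P e J ↔ β x ∈ PJ P e (sg e cs hcs hg '' J) := by
      intro x
      rw [mem_PJ e cs hcs, mem_PJ e cs hcs]
      have h3 : wt P (β x) = fW P β (wt P x) := (fW_wt β hg x).symm
      rw [h3]
      let f : WP P →* WP P :=
        { toFun := fW P β
          map_one' := fW_one β hg
          map_mul' := fW_mul β hg e cs hcs }
      have hfinj : Function.Injective f := fW_injective β hg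
      have h4 : (WJ cs J).map f = WJ cs (sg e cs hcs hg '' J) := by
        rw [WJ, WJ, MonoidHom.map_closure]
        congr 1
        ext w
        constructor
        · rintro ⟨_, ⟨i, hi, rfl⟩, rfl⟩
          exact ⟨_, ⟨i, hi, rfl⟩, (fW_simple' e cs hcs hg i).symm⟩
        · rintro ⟨_, ⟨i, hi, rfl⟩, rfl⟩
          exact ⟨_, ⟨i, hi, rfl⟩, fW_simple' e cs hcs hg i⟩
      rw [← h4]
      constructor
      · intro h
        exact ⟨_, h, rfl⟩
      · rintro ⟨w, hw, hwx⟩
        have : w = wt P x := hfinj hwx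
        rwa [← this]
    ext x
    constructor
    · rintro ⟨y, hy, rfl⟩
      exact (h2 y).1 hy
    · intro hx
      refine ⟨β⁻¹ x, (h2 _).2 ?_, ?_⟩
      · rw [MulAut.apply_inv_self]
        exact hx
      · exact MulAut.apply_inv_self _ β x
  have h2 : (PJ P e J).map α.toMonoidHom =
      ((PJ P e J).map β.toMonoidHom).map (MulAut.conj g⁻¹).toMonoidHom := by
    rw [Subgroup.map_map]
    congr 1
    ext x
    simp only [hβ, MulEquiv.coe_toMonoidHom, MonoidHom.comp_apply, MulAut.mul_apply,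
      MulAut.conj_apply]
    group
  rw [h2, h1]
  rfl

end

end Cfsg.Agent.H694
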