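import Cfsg.Agent.ChevalleyStructure.CoxeterGeom
import Cfsg.Agent.Tits.OppRes
import Cfsg.Agent.Nodes.RootsA
import Cfsg.Agent.Nodes.TypeC
import Cfsg.Agent.Nodes.TypeD
import Cfsg.Agent.FastGrp
import Cfsg.Agent.Prune
set_option linter.all false

section
prune_inst 0x7f00000000000000000000000000000000000000000000000000000000000000000000000000000000000000000000000000000000000000000000000000000000000000000000000000000000000000003fffffffffffffffffffffffffffbeffbdffffffff

-- part: H694/CoxCount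
section
set_option linter.all false
open scoped Cfsg.Agent.FastGrp

/-!
# Parabolic cosets and double cosets of a Coxeter group by the numbers game

A functional on the root lattice is given by its values `c : B → ℤ` on the simple roots; the simple
reflection `s_i` maps it to `j ↦ c j - A i j * c i`.

* `mem_WJ_iff`: the stabilizer of a dominant functional is a standard parabolic subgroup.
* `count`: the cosets and double cosets of that parabolic subgroup.
-/

set_option autoImplicit false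

namespace Cfsg.Agent.H694

open Cfsg.Agent.ChevalleyStructure.CoxeterGeom Cfsg.Agent.Tits.Core Cfsg.Agent.Tits.OppRes
open Cfsg.Agent.Tits.OppRes.Cox

variable {B : Type*} [Fintype B]

/-- the functional with values `c` -/
def fn (c : B → ℤ) (v : B → ℤ) : ℤ := ∑ j, v j * c j

theorem fn_add (c v w : B → ℤ) : fn c (v + w) = fn c v + fn c w := by
  simp only [fn, Pi.add_apply, add_mul, Finset.sum_add_distrib]

theorem fn_sub (c v w : B → ℤ) : fn c (v - w) = fn c v - fn c w := by
  simp only [fn, Pi.sub_apply, sub_mul, Finset.sum_sub_distrib]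

theorem fn_smul (c : B → ℤ) (x : ℤ) (v : B → ℤ) : fn c (x • v) = x * fn c v := by
  simp only [fn, Pi.smul_apply, smul_eq_mul, Finset.mul_sum, mul_assoc]

theorem fn_sum {ι : Type*} (s : Finset ι) (c : B → ℤ) (v : ι → B → ℤ) :
    fn c (∑ k ∈ s, v k) = ∑ k ∈ s, fn c (v k) := by
  classical
  induction s using Finset.induction_on with
  | empty => simp [fn]
  | insert a s ha ih => rw [Finset.sum_insert ha, Finset.sum_insert ha, fn_add, ih]

variable [DecidableEq B]

theorem fn_single (c : B → ℤ) (i : B) (x : ℤ) : fn c (Pi.single i x) = x * c i := by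
  simp [fn, Pi.single_apply]

variable {W : Type*} [Group W] {M : CoxeterMatrix B} (cs : CoxeterSystem M W) {A : B → B → ℤ}
  (h : IsCartan M A)

/-- the right action on functionals -/
def mv (w : W) (c : B → ℤ) : B → ℤ := fun i => fn c (rep cs h w (Pi.single i 1))

theorem fn_mv (w : W) (c v : B → ℤ) : fn (mv cs h w c) v = fn c (rep cs h w v) := by
  have h1 : v = ∑ i, v i • (Pi.single i (1 : ℤ) : B → ℤ) := by
    funext j
    simp [Finset.sum_apply, Pi.single_apply]
  conv_rhs => rw [h1]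
  rw [map_sum, fn_sum]
  unfold fn mv
  refine Finset.sum_congr rfl fun i _ => ?_
  rw [map_smul]
  show v i * fn c _ = fn c (v i • _)
  rw [fn_smul]

theorem mv_mul (v w : W) (c : B → ℤ) : mv cs h (v * w) c = mv cs h w (mv cs h v c) := by
  funext i
  show fn c _ = fn (mv cs h v c) _
  rw [fn_mv, rep_mul_apply]

theorem mv_one (c : B → ℤ) : mv cs h 1 c = c := by
  funext i
  show fn c (rep cs h 1 _) = c i
  rw [map_one, Module.End.one_apply, fn_single, one_mul]

theorem mv_simple (i : B) (c : B → ℤ) : mv cs h (cs.simple i) c = fun j => c j - A i j * c i := by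
  funext j
  show fn c (rep cs h (cs.simple i) _) = _
  rw [rep_simple, refl_single, fn_sub, fn_single, fn_single]
  ring

theorem mv_inv_eq {w : W} {c d : B → ℤ} (hw : mv cs h w c = d) : mv cs h w⁻¹ d = c := by
  rw [← hw, ← mv_mul, mul_inv_cancel, mv_one]

omit [DecidableEq B] in
theorem fn_nonneg {c v : B → ℤ} (hv : 0 ≤ v) (hc : ∀ j, v j ≠ 0 → 0 ≤ c j) : 0 ≤ fn c v := by
  refine Finset.sum_nonneg fun j _ => ?_
  by_cases h0 : v j = 0
  · rw [h0, zero_mul]
  · exact mul_nonneg (hv j) (hc j h0)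

omit [DecidableEq B] in
theorem fn_nonpos {c v : B → ℤ} (hv : v ≤ 0) (hc : ∀ j, v j ≠ 0 → 0 ≤ c j) : fn c v ≤ 0 := by
  refine Finset.sum_nonpos fun j _ => ?_
  by_cases h0 : v j = 0
  · rw [h0, zero_mul]
  · exact mul_nonpos_of_nonpos_of_nonneg (hv j) (hc j h0)

variable [Finite W]

omit [Finite W] in
/-- `W_L` preserves the vectors supported on `L`. -/
theorem supp_rep {L : Set B} {w : W} (hw : w ∈ WJ cs L) {v : B → ℤ} (hv : ∀ j, v j ≠ 0 → j ∈ L) :
    ∀ j, rep cs h w v j ≠ 0 → j ∈ L := by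
  have key : ∀ i ∈ L, ∀ v : B → ℤ, (∀ j, v j ≠ 0 → j ∈ L) →
      ∀ j, rep cs h (cs.simple i) v j ≠ 0 → j ∈ L := by
    intro i hi v hv j hj
    rw [rep_simple, refl_apply, Pi.sub_apply, Pi.single_apply] at hj
    by_cases hji : j = i
    · rw [hji]; exact hi
    · rw [if_neg hji, sub_zero] at hj
      exact hv j hj
  induction hw using Subgroup.closure_induction_left with
  | one =>
    rw [map_one, Module.End.one_apply]
    exact hv
  | mul_left x hx y _ ih =>
    obtain ⟨i, hi, rfl⟩ := hx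
    intro j hj
    rw [rep_mul_apply] at hj
    exact key i hi _ ih j hj
  | inv_mul_cancel x hx y _ ih =>
    obtain ⟨i, hi, rfl⟩ := hx
    intro j hj
    rw [cs.inv_simple, rep_mul_apply] at hj
    exact key i hi _ ih j hj

/-- Two `L`-dominant functionals in the same orbit of `W_L` are equal. -/
theorem eq_of_dominant {L : Set B} {w : W} (hw : w ∈ WJ cs L) {c d : B → ℤ}
    (hc : ∀ i ∈ L, 0 ≤ c i) (hd : ∀ i ∈ L, 0 ≤ d i) (hcd : mv cs h w c = d) : c = d := by
  have hC : Cox cs := inferInstance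
  induction hn : cs.length w using Nat.strong_induction_on generalizing w with
  | _ n ih =>
  by_cases hw1 : w = 1
  · rw [hw1, mv_one] at hcd
    exact hcd
  obtain ⟨i, hi, hdes⟩ := hC.exists_descent hw hw1
  have hlt : cs.length (w * cs.simple i) < cs.length w := hdes
  have h1 : d i ≤ 0 := by
    rw [← hcd]
    refine fn_nonpos (nonpos_of_lt cs h w i hlt) fun j hj => hc j ?_
    refine supp_rep cs h hw (v := Pi.single i 1) (fun k hk => ?_) j hj
    by_contra hk'
    apply hk
    rw [Pi.single_apply, if_neg]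
    rintro rfl
    exact hk' hi
  have h2 : d i = 0 := le_antisymm h1 (hd i hi)
  refine ih _ (hn ▸ hlt) (mul_mem hw (simple_mem_WJ hi)) ?_ rfl
  rw [mv_mul, hcd, mv_simple, h2]
  funext j
  ring

/-- The stabilizer of a dominant functional. -/
theorem mem_WJ_iff {c : B → ℤ} (hc : ∀ i, 0 ≤ c i) {w : W} :
    w ∈ WJ cs {i | c i = 0} ↔ mv cs h w c = c := by
  have hC : Cox cs := inferInstance
  constructor
  · intro hw
    induction hw using Subgroup.closure_induction_left with
    | one => exact mv_one cs h c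
    | mul_left x hx y _ ih =>
      obtain ⟨i, hi, rfl⟩ := hx
      have hi' : c i = 0 := hi
      rw [mv_mul, mv_simple, hi']
      simp only [mul_zero, sub_zero]
      exact ih
    | inv_mul_cancel x hx y _ ih =>
      obtain ⟨i, hi, rfl⟩ := hx
      have hi' : c i = 0 := hi
      rw [cs.inv_simple, mv_mul, mv_simple, hi']
      simp only [mul_zero, sub_zero]
      exact ih
  · intro hw
    induction hn : cs.length w using Nat.strong_induction_on generalizing w with
    | _ n ih =>
    by_cases hw1 : w = 1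
    · rw [hw1]
      exact one_mem _
    obtain ⟨i, hdes⟩ := cs.exists_rightDescent_of_ne_one hw1
    have hlt : cs.length (w * cs.simple i) < cs.length w := hdes
    have h1 : c i ≤ 0 := by
      conv_lhs => rw [← hw]
      exact fn_nonpos (nonpos_of_lt cs h w i hlt) fun j _ => hc j
    have h2 : c i = 0 := le_antisymm h1 (hc i)
    have h3 : w * cs.simple i ∈ WJ cs {i | c i = 0} := by
      refine ih _ (hn ▸ hlt) ?_ rfl
      rw [mv_mul, hw, mv_simple, h2]
      funext j
      ring
    have h4 := mul_mem h3 (simple_mem_WJ (cs := cs) (J := {i | c i = 0}) (j := i) h2)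
    rwa [mul_assoc, cs.simple_mul_simple_self, mul_one] at h4

omit [Finite W] in
/-- The orbits of `W_L` contain dominant functionals. -/
theorem exists_dominant {c : B → ℤ} (hc : ∀ i, 0 ≤ c i) (L : Set B) (w : W) :
    ∃ u ∈ WJ cs L, ∀ i ∈ L, 0 ≤ mv cs h (w * u) c i := by
  classical
  have hex : ∃ n, ∃ u ∈ WJ cs L, cs.length (w * u) = n := ⟨_, 1, one_mem _, rfl⟩
  obtain ⟨u, hu, hun⟩ := Nat.find_spec hex
  refine ⟨u, hu, fun i hi => ?_⟩
  have h1 : cs.length (w * u) < cs.length (w * u * cs.simple i) := by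
    rcases cs.length_mul_simple (w * u) i with h' | h'
    · omega
    · exfalso
      refine Nat.find_min hex (m := cs.length (w * u * cs.simple i)) (by omega)
        ⟨u * cs.simple i, mul_mem hu (simple_mem_WJ hi), by rw [mul_assoc]⟩
  exact fn_nonneg (nonneg_of_lt cs h _ i h1) fun j _ => hc j

/-- The cosets of the stabilizer and the orbit. -/
theorem card_index {c : B → ℤ} (hc : ∀ i, 0 ≤ c i) :
    (WJ cs {i | c i = 0}).index = Nat.card {x : B → ℤ // ∃ w : W, mv cs h w c = x} := by
  symm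
  have hf : ∀ v w : W, mv cs h v⁻¹ c = mv cs h w⁻¹ c ↔ v⁻¹ * w ∈ WJ cs {i | c i = 0} := by
    intro v w
    rw [mem_WJ_iff cs h hc, mv_mul]
    constructor
    · intro h1
      rw [h1, ← mv_mul, inv_mul_cancel, mv_one]
    · intro h1
      have h2 := mv_inv_eq cs h h1
      exact h2.symm
  refine (Nat.card_congr (Equiv.ofBijective (Quotient.lift (fun w : W =>
    (⟨mv cs h w⁻¹ c, w⁻¹, rfl⟩ : {x : B → ℤ // ∃ w : W, mv cs h w c = x})) ?_) ⟨?_, ?_⟩)).symm
  · intro a b hab
    exact Subtype.ext ((hf a b).2 (QuotientGroup.leftRel_apply.1 hab))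
  · intro a b
    induction a using QuotientGroup.induction_on with
    | _ a =>
    induction b using QuotientGroup.induction_on with
    | _ b =>
    intro h1
    exact QuotientGroup.eq.2 ((hf a b).1 (congrArg Subtype.val h1))
  · rintro ⟨x, w, rfl⟩
    exact ⟨QuotientGroup.mk w⁻¹, Subtype.ext (by
      show mv cs h w⁻¹⁻¹ c = mv cs h w c
      rw [inv_inv])⟩

/-- The double cosets and the `L`-dominant functionals of the orbit. -/
theorem card_dbl {c : B → ℤ} (hc : ∀ i, 0 ≤ c i) (L : Set B) :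
    Nat.card (DoubleCoset.Quotient (WJ cs L : Set W) (WJ cs {i | c i = 0} : Set W)) =
      Nat.card {x : B → ℤ // (∃ w : W, mv cs h w c = x) ∧ ∀ i ∈ L, 0 ≤ x i} := by
  symm
  let f : {x : B → ℤ // (∃ w : W, mv cs h w c = x) ∧ ∀ i ∈ L, 0 ≤ x i} →
      DoubleCoset.Quotient (WJ cs L : Set W) (WJ cs {i | c i = 0} : Set W) :=
    fun x => Quotient.mk _ (x.2.1.choose)⁻¹
  refine Nat.card_congr (Equiv.ofBijective f ⟨?_, ?_⟩)
  · intro x y hxy
    have h1 := Quotient.exact hxy
    have h2 := (DoubleCoset.rel_iff.1 h1)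
    obtain ⟨a, ha, b, hb, hab⟩ := h2
    have hx := x.2.1.choose_spec
    have hy := y.2.1.choose_spec
    have h3 : y.2.1.choose = b⁻¹ * x.2.1.choose * a⁻¹ := by
      have := congrArg (fun t => t⁻¹) hab
      simp only [inv_inv, mul_inv_rev] at this
      rw [this, mul_assoc]
    have h4 : mv cs h a⁻¹ x.1 = y.1 := by
      rw [← hy, h3, mv_mul, mv_mul, (mem_WJ_iff cs h hc).1 (inv_mem hb), hx]
    exact Subtype.ext (eq_of_dominant cs h (inv_mem ha) x.2.2 y.2.2 h4)
  · intro q
    induction q using Quotient.inductionOn with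
    | _ w =>
    obtain ⟨u, hu, hdom⟩ := exists_dominant cs h hc L w⁻¹
    let x : {x : B → ℤ // (∃ w : W, mv cs h w c = x) ∧ ∀ i ∈ L, 0 ≤ x i} :=
      ⟨mv cs h (w⁻¹ * u) c, ⟨_, rfl⟩, hdom⟩
    refine ⟨x, Quotient.sound ?_⟩
    apply DoubleCoset.rel_iff.2
    have hx : mv cs h x.2.1.choose c = mv cs h (w⁻¹ * u) c := x.2.1.choose_spec
    have h3 : x.2.1.choose * (w⁻¹ * u)⁻¹ ∈ WJ cs {i | c i = 0} := by
      rw [mem_WJ_iff cs h hc, mv_mul, hx, ← mv_mul, mul_inv_cancel, mv_one]
    refine ⟨u, hu, _, h3, ?_⟩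
    group

include h in
/-- **Counting with an explicit model of the orbit.** -/
theorem count {c : B → ℤ} (hc : ∀ i, 0 ≤ c i) {Y : Type*} (φ : Y → B → ℤ)
    (hφ : Function.Injective φ) (y₀ : Y) (hy₀ : φ y₀ = c) (s : B → Y → Y)
    (hs : ∀ i y j, φ (s i y) j = φ y j - A i j * φ y i) (rk : Y → ℕ)
    (hconn : ∀ y, y ≠ y₀ → ∃ i, rk (s i y) < rk y) :
    (WJ cs {i | c i = 0}).index = Nat.card Y ∧
      ∀ L : Set B, Nat.card (DoubleCoset.Quotient (WJ cs L : Set W) (WJ cs {i | c i = 0} : Set W)) =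
        Nat.card {y : Y // ∀ i ∈ L, 0 ≤ φ y i} := by
  have hs' : ∀ i y, φ (s i y) = mv cs h (cs.simple i) (φ y) := by
    intro i y
    rw [mv_simple]
    exact funext fun j => hs i y j
  have hX : ∀ x : B → ℤ, (∃ w : W, mv cs h w c = x) ↔ ∃ y, φ y = x := by
    intro x
    constructor
    · rintro ⟨w, rfl⟩
      induction w using cs.simple_induction_right with
      | one => exact ⟨y₀, by rw [mv_one, hy₀]⟩
      | mul_simple_right w i ih =>
        obtain ⟨y, hy⟩ := ih
        exact ⟨s i y, by rw [hs', hy, ← mv_mul]⟩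
    · rintro ⟨y, rfl⟩
      induction hn : rk y using Nat.strong_induction_on generalizing y with
      | _ n ih =>
      by_cases hy : y = y₀
      · exact ⟨1, by rw [mv_one, hy, hy₀]⟩
      · obtain ⟨i, hi⟩ := hconn y hy
        obtain ⟨w, hw⟩ := ih _ (hn ▸ hi) (s i y) rfl
        refine ⟨w * cs.simple i, ?_⟩
        rw [mv_mul, hw, hs', ← mv_mul, cs.simple_mul_simple_self, mv_one]
  constructor
  · rw [card_index cs h hc]
    refine (Nat.card_congr (Equiv.ofBijective (fun y : Y =>
      (⟨φ y, (hX _).2 ⟨y, rfl⟩⟩ : {x : B → ℤ // ∃ w : W, mv cs h w c = x})) ⟨?_, ?_⟩)).symm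
    · intro a b hab
      exact hφ (congrArg Subtype.val hab)
    · rintro ⟨x, hx⟩
      obtain ⟨y, rfl⟩ := (hX x).1 hx
      exact ⟨y, rfl⟩
  · intro L
    rw [card_dbl cs h hc]
    refine (Nat.card_congr (Equiv.ofBijective (fun y : {y : Y // ∀ i ∈ L, 0 ≤ φ y i} =>
      (⟨φ y.1, (hX _).2 ⟨y.1, rfl⟩, y.2⟩ :
        {x : B → ℤ // (∃ w : W, mv cs h w c = x) ∧ ∀ i ∈ L, 0 ≤ x i})) ⟨?_, ?_⟩)).symm
    · intro a b hab
      exact Subtype.ext (hφ (congrArg Subtype.val hab))
    · rintro ⟨x, hx, hx'⟩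
      obtain ⟨y, rfl⟩ := (hX x).1 hx
      exact ⟨⟨y, hx'⟩, rfl⟩

/-- The number of double cosets is symmetric. -/
theorem card_double_comm {G : Type*} [Group G] (H K : Subgroup G) :
    Nat.card (DoubleCoset.Quotient (H : Set G) (K : Set G)) =
      Nat.card (DoubleCoset.Quotient (K : Set G) (H : Set G)) := by
  refine Nat.card_congr (Quotient.congr (Equiv.inv G) fun a b => ?_)
  show DoubleCoset.setoid (H : Set G) (K : Set G) a b ↔
    DoubleCoset.setoid (K : Set G) (H : Set G) a⁻¹ b⁻¹
  rw [DoubleCoset.rel_iff, DoubleCoset.rel_iff]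
  constructor
  · rintro ⟨x, hx, y, hy, rfl⟩
    exact ⟨y⁻¹, inv_mem hy, x⁻¹, inv_mem hx, by group⟩
  · rintro ⟨x, hx, y, hy, hb⟩
    refine ⟨y⁻¹, inv_mem hy, x⁻¹, inv_mem hx, ?_⟩
    have := congrArg (fun t => t⁻¹) hb
    simp only [inv_inv, mul_inv_rev] at this
    rw [this]
    group

end Cfsg.Agent.H694

private theorem dce_780eab866439 : _root_.True := by
  try have : _root_.True := by simp only [_root_.Cfsg.Agent.H694.fn.eq_1]
  try have : _root_.True := by simp only [_root_.Cfsg.Agent.H694.mv.congr_simp]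
  exact _root_.True.intro
end

-- part: H694/CoxA
section
set_option linter.all false
open scoped Cfsg.Agent.FastGrp

/-!
# Parity data for the Coxeter groups of type `A`: the complement of the two end nodes
-/

set_option autoImplicit false

namespace Cfsg.Agent.H694

open Cfsg.Agent.ChevalleyStructure.CoxeterGeom Cfsg.Agent.Tits.Core Cfsg.Agent.Tits.OppRes
open Cfsg.Agent.Nodes
open Cfsg.Agent.LieRecognition.BNCox (cA)

/-- `⟨e_a, α_j⟩` -/
def ev (n : ℕ) (a : Fin (n + 1)) (j : Fin n) : ℤ :=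
  if (a : ℕ) = j then 1 else if (a : ℕ) = (j : ℕ) + 1 then -1 else 0

/-- ordered pairs -/
def YA (n : ℕ) : Type := {y : Fin (n + 1) × Fin (n + 1) // y.1 ≠ y.2}

/-- the functional of the root `e_a - e_b` -/
def phA (n : ℕ) (y : YA n) (j : Fin n) : ℤ := ev n y.1.1 j - ev n y.1.2 j

/-- the simple reflections -/
def sA (n : ℕ) (i : Fin n) (y : YA n) : YA n :=
  ⟨(Equiv.swap i.castSucc i.succ y.1.1, Equiv.swap i.castSucc i.succ y.1.2), fun h =>
    y.2 ((Equiv.swap i.castSucc i.succ).injective h)⟩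

theorem ev_swap {n : ℕ} (i : Fin n) (a : Fin (n + 1)) (j : Fin n) :
    ev n (Equiv.swap i.castSucc i.succ a) j = ev n a j - RootsA.AA n i j * ev n a i := by
  have h1 := i.2
  have h2 := j.2
  have h3 := a.2
  unfold ev RootsA.AA
  rw [RootsA.swap_val]
  simp only [Fin.ext_iff]
  by_cases e1 : (a : ℕ) = i
  · simp only [e1, if_true]
    split_ifs <;> omega
  · by_cases e2 : (a : ℕ) = (i : ℕ) + 1
    · simp only [e2, if_true]
      split_ifs <;> omega
    · simp only [e1, e2, if_false]
      split_ifs <;> omega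

theorem phA_sA {n : ℕ} (i : Fin n) (y : YA n) (j : Fin n) :
    phA n (sA n i y) j = phA n y j - RootsA.AA n i j * phA n y i := by
  unfold phA sA
  simp only
  rw [ev_swap, ev_swap]
  ring

theorem phA_injective (n : ℕ) : Function.Injective (phA n) := by
  rintro ⟨⟨a, b⟩, hab⟩ ⟨⟨c, d⟩, hcd⟩ h
  let δ : Fin (n + 1) → ℤ := fun k => ((if k = a then 1 else 0) - (if k = b then 1 else 0)) -
    ((if k = c then 1 else 0) - (if k = d then 1 else 0))
  have hev : ∀ (x : Fin (n + 1)) (j : Fin n), ev n x j =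
      (if j.castSucc = x then 1 else 0) - (if j.succ = x then 1 else 0) := by
    intro x j
    unfold ev
    simp only [Fin.ext_iff, Fin.val_castSucc, Fin.val_succ]
    split_ifs <;> omega
  have h1 : ∀ j : Fin n, δ j.castSucc = δ j.succ := by
    intro j
    have h2 := congrFun h j
    simp only [phA, hev] at h2
    simp only [δ]
    linarith
  have h2 : ∀ k : Fin (n + 1), δ k = δ 0 := by
    intro k
    induction k using Fin.induction with
    | zero => rfl
    | succ i ih => rw [← h1, ih]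
  have h3 : ∑ k, δ k = 0 := by
    simp only [δ, Finset.sum_sub_distrib, Finset.sum_ite_eq', Finset.mem_univ, if_true]
    norm_num
  have h4 : δ 0 = 0 := by
    rw [Finset.sum_congr rfl fun k _ => h2 k, Finset.sum_const, Finset.card_univ,
      Fintype.card_fin, nsmul_eq_mul] at h3
    rcases mul_eq_zero.1 h3 with h5 | h5
    · push_cast at h5
      omega
    · exact h5
  have h5 := (h2 a).trans h4
  have h6 := (h2 b).trans h4
  simp only [δ, if_true] at h5 h6
  rw [if_neg hab] at h5
  rw [if_neg (Ne.symm hab)] at h6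
  apply Subtype.ext
  rw [Prod.mk.injEq]
  constructor
  · by_contra hc
    rw [if_neg hc] at h5
    split_ifs at h5 <;> omega
  · by_contra hd
    rw [if_neg hd] at h6
    split_ifs at h6 <;> omega

/-- the rank function -/
def rkA (n : ℕ) (y : YA n) : ℕ := (y.1.1 : ℕ) + (n - y.1.2)

theorem conn_A {n : ℕ} (hn : 1 ≤ n) (y : YA n) (hy : y ≠ ⟨(0, Fin.last n), by
    intro h
    have := congrArg Fin.val h
    simp at this
    omega⟩) : ∃ i, rkA n (sA n i y) < rkA n y := by
  obtain ⟨⟨a, b⟩, hab⟩ := y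
  have ha := a.2
  have hb := b.2
  have hne : (a : ℕ) ≠ b := fun h => hab (Fin.ext h)
  unfold rkA sA
  simp only [RootsA.swap_val]
  by_cases h0 : (a : ℕ) = 0
  · have hbn : (b : ℕ) ≠ n := by
      intro hb'
      apply hy
      apply Subtype.ext
      rw [Prod.mk.injEq]
      exact ⟨Fin.ext h0, Fin.ext hb'⟩
    refine ⟨⟨b, by omega⟩, ?_⟩
    simp only
    rw [if_neg hne, if_neg (by omega)]
    simp only [if_true]
    omega
  · refine ⟨⟨a - 1, by omega⟩, ?_⟩
    simp only
    rw [if_neg (by omega : ¬ (a : ℕ) = a - 1), if_pos (by omega : (a : ℕ) = a - 1 + 1)]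
    split_ifs <;> omega

/-- the dominant functional -/
def cAd (n : ℕ) (j : Fin n) : ℤ := if (j : ℕ) = 0 ∨ (j : ℕ) = n - 1 then 1 else 0

theorem cAd_eq_zero {n : ℕ} {j : Fin n} : cAd n j = 0 ↔ ¬ ((j : ℕ) = 0 ∨ (j : ℕ) = n - 1) := by
  unfold cAd
  split_ifs <;> simp_all only [_root_.one_ne_zero, _root_.not_true_eq_false, _root_.not_or, _root_.or_self, _root_.not_false_eq_true]

theorem card_YA (n : ℕ) : Nat.card (YA n) = n * (n + 1) := by
  classical
  unfold YA
  rw [Nat.card_eq_fintype_card, Fintype.card_subtype]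
  have h1 : (Finset.univ.filter fun y : Fin (n + 1) × Fin (n + 1) => y.1 ≠ y.2) =
      (Finset.univ : Finset (Fin (n + 1))).offDiag := by
    ext y
    simp
  rw [h1, Finset.offDiag_card, Finset.card_univ, Fintype.card_fin]
  have : (n + 1) * (n + 1) - (n + 1) = n * (n + 1) := by
    rw [← Nat.sub_one_mul]
    simp
  exact this

theorem parity_A {n : ℕ} (hn : 3 ≤ n) {W : Type*} [Group W] [Finite W]
    (cs : CoxeterSystem (cA n) W) :
    (WJ cs {i | cAd n i = 0}).index = n * (n + 1) ∧
      Nat.card (DoubleCoset.Quotient (WJ cs {i | cAd n i = 0} : Set W)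
        (WJ cs {i | cAd n i = 0} : Set W)) = 7 := by
  have h0 : (0 : Fin (n + 1)) ≠ Fin.last n := by
    intro h
    have := congrArg Fin.val h
    simp at this
    omega
  have hy0 : phA n ⟨(0, Fin.last n), h0⟩ = cAd n := by
    funext j
    have := j.2
    have e1 : ((0 : Fin (n + 1)) : ℕ) = 0 := rfl
    have e2 : ((Fin.last n : Fin (n + 1)) : ℕ) = n := rfl
    simp only [phA, ev, cAd]
    split_ifs <;> omega
  obtain ⟨h1, h2⟩ := count cs (RootsA.isCartan n) (c := cAd n) (by
    intro i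
    unfold cAd
    split_ifs <;> norm_num) (phA n) (phA_injective n) ⟨(0, Fin.last n), h0⟩ hy0 (sA n) phA_sA
    (rkA n) (conn_A (by omega))
  refine ⟨h1.trans (card_YA n), (h2 _).trans ?_⟩
  -- the seven dominant pairs
  let f : Fin 3 → ℕ := ![0, 1, n]
  let g : Fin 3 → ℕ := ![0, n - 1, n]
  have hf : ∀ x, f x < n + 1 := by
    intro x
    (revert x; simp only [f, _root_.Fin.forall_fin_succ, _root_.Order.lt_add_one_iff, Fin.isValue, _root_.Matrix.cons_val_zero, _root_.zero_le, _root_.Matrix.cons_val_succ, _root_.Matrix.cons_val_fin_one, _root_.Std.le_refl, _root_.implies_true, _root_.and_true, _root_.true_and]) <;> (repeat' with_reducible apply And.intro) <;> omega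
  have hg : ∀ x, g x < n + 1 := by
    intro x
    (revert x; simp only [g, _root_.Fin.forall_fin_succ, _root_.Order.lt_add_one_iff, Fin.isValue, _root_.Matrix.cons_val_zero, _root_.zero_le, _root_.Matrix.cons_val_succ, _root_.tsub_le_iff_right, _root_.le_add_iff_nonneg_right, _root_.Matrix.cons_val_fin_one, _root_.Std.le_refl, _root_.implies_true, _root_.and_self]) <;> (repeat' with_reducible apply And.intro) <;> omega
  have hfinj : ∀ x y, f x = f y → x = y := by
    intro x y
    (revert x y; simp only [f, _root_.Fin.forall_fin_succ, Fin.isValue, _root_.Matrix.cons_val_zero, _root_.Matrix.cons_val_succ, _root_.Fin.succ_zero_eq_one, _root_.Matrix.cons_val_fin_one, _root_.Fin.succ_one_eq_two, _root_.IsEmpty.forall_iff, _root_.and_true, _root_.imp_self, _root_.zero_ne_one, Fin.reduceEq, _root_.imp_false, _root_.true_and, _root_.Fin.succ_ne_zero, _root_.one_ne_zero, _root_.not_false_eq_true, _root_.forall_const]) <;> (repeat' with_reducible apply And.intro) <;> omega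
  have hginj : ∀ x y, g x = g y → x = y := by
    intro x y
    (revert x y; simp only [g, _root_.Fin.forall_fin_succ, Fin.isValue, _root_.Matrix.cons_val_zero, _root_.Matrix.cons_val_succ, _root_.Fin.succ_zero_eq_one, _root_.Matrix.cons_val_fin_one, _root_.Fin.succ_one_eq_two, _root_.IsEmpty.forall_iff, _root_.and_true, _root_.imp_self, _root_.zero_ne_one, _root_.imp_false, Fin.reduceEq, _root_.true_and, _root_.Fin.succ_ne_zero, _root_.forall_const]) <;> (repeat' with_reducible apply And.intro) <;> omega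
  have hfg : ∀ x y, f x = g y ↔ ((x = 0 ∧ y = 0) ∨ (x = 2 ∧ y = 2)) := by
    intro x y
    (revert x y; simp only [f, g, _root_.Fin.forall_fin_succ, Fin.isValue, _root_.Matrix.cons_val_zero, _root_.and_true, Fin.reduceEq, _root_.and_false, _root_.or_false, _root_.Matrix.cons_val_succ, _root_.Fin.succ_ne_zero, _root_.false_or, _root_.Fin.succ_zero_eq_one, _root_.iff_false, _root_.Matrix.cons_val_fin_one, _root_.Fin.succ_one_eq_two, _root_.IsEmpty.forall_iff, _root_.true_and, _root_.one_ne_zero, _root_.not_false_eq_true, _root_.true_iff]) <;> (repeat' with_reducible apply And.intro) <;> omega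
  have hdom : ∀ y : YA n, (∀ i ∈ {i | cAd n i = 0}, 0 ≤ phA n y i) ↔
      ((y.1.1 : ℕ) = 0 ∨ (y.1.1 : ℕ) = 1 ∨ (y.1.1 : ℕ) = n) ∧
      ((y.1.2 : ℕ) = 0 ∨ (y.1.2 : ℕ) = n - 1 ∨ (y.1.2 : ℕ) = n) := by
    rintro ⟨⟨a, b⟩, hab⟩
    have ha := a.2
    have hb := b.2
    have hne : (a : ℕ) ≠ b := fun h => hab (Fin.ext h)
    simp only
    constructor
    · intro h3
      constructor
      · by_contra hcon
        have h4 := h3 ⟨a - 1, by omega⟩ (cAd_eq_zero.2 (by simp only; omega))
        simp only [phA, ev] at h4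
        rw [if_neg (by (clear * - hcon; omega) : ¬ (a : ℕ) = a - 1), if_pos (by (clear * - hcon; omega) : (a : ℕ) = a - 1 + 1)] at h4
        split_ifs at h4 <;> omega
      · by_contra hcon
        have h4 := h3 ⟨b, by omega⟩ (cAd_eq_zero.2 (by simp only; omega))
        simp only [phA, ev] at h4
        rw [if_neg hne] at h4
        simp only [if_true] at h4
        split_ifs at h4 <;> omega
    · rintro ⟨h3, h4⟩ i hi
      have hi' := i.2
      have hi2 : ¬ ((i : ℕ) = 0 ∨ (i : ℕ) = n - 1) := cAd_eq_zero.1 hi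
      simp only [phA, ev]
      split_ifs <;> omega
  have key : Nat.card {y : YA n // ∀ i ∈ {i | cAd n i = 0}, 0 ≤ phA n y i} =
      Nat.card {q : Fin 3 × Fin 3 // ¬ ((q.1 = 0 ∧ q.2 = 0) ∨ (q.1 = 2 ∧ q.2 = 2))} := by
    symm
    refine Nat.card_congr (Equiv.ofBijective (fun q =>
      (⟨⟨(⟨f q.1.1, hf _⟩, ⟨g q.1.2, hg _⟩), fun h => q.2 ((hfg _ _).1 (congrArg Fin.val h))⟩,
        (hdom _).2 ⟨?_, ?_⟩⟩ : {y : YA n // ∀ i ∈ {i | cAd n i = 0}, 0 ≤ phA n y i})) ⟨?_, ?_⟩)
    · obtain ⟨⟨x, y⟩, h⟩ := q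
      fin_cases x <;> simp [f]
    · obtain ⟨⟨x, y⟩, h⟩ := q
      (revert y; simp only [g, _root_.Fin.forall_fin_succ, Fin.isValue, _root_.not_or, _root_.not_and, _root_.and_imp, _root_.not_true_eq_false, _root_.imp_false, Fin.reduceEq, _root_.not_false_eq_true, _root_.implies_true, _root_.Matrix.cons_val_zero, _root_.true_or, _root_.imp_self, _root_.Fin.succ_ne_zero, _root_.Matrix.cons_val_succ, _root_.forall_const, _root_.Fin.succ_zero_eq_one, _root_.or_true, _root_.Matrix.cons_val_fin_one, _root_.and_self])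
    · rintro ⟨⟨x, y⟩, h⟩ ⟨⟨x', y'⟩, h'⟩ heq
      have h5 := congrArg (fun z => (z.1.1 : Fin (n + 1) × Fin (n + 1))) heq
      simp only [Prod.mk.injEq, Fin.mk.injEq] at h5
      exact Subtype.ext (Prod.ext (hfinj _ _ h5.1) (hginj _ _ h5.2))
    · rintro ⟨⟨⟨a, b⟩, hab⟩, hy⟩
      obtain ⟨h5, h6⟩ := (hdom _).1 hy
      simp only at h5 h6
      obtain ⟨x, hx⟩ : ∃ x, f x = a := by
        rcases h5 with h5 | h5 | h5
        · exact ⟨0, by simp [f, h5]⟩
        · exact ⟨1, by simp [f, h5]⟩
        · exact ⟨2, by simp [f, h5]⟩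
      obtain ⟨y, hy⟩ : ∃ y, g y = b := by
        rcases h6 with h6 | h6 | h6
        · exact ⟨0, by simp [g, h6]⟩
        · exact ⟨1, by simp [g, h6]⟩
        · exact ⟨2, by simp [g, h6]⟩
      refine ⟨⟨(x, y), fun h => hab (Fin.ext ?_)⟩, Subtype.ext (Subtype.ext
        (Prod.ext (Fin.ext hx) (Fin.ext hy)))⟩
      show (a : ℕ) = b
      rw [← hx, ← hy]
      exact (hfg _ _).2 h
  rw [key, Nat.card_eq_fintype_card]
  decide

end Cfsg.Agent.H694

private theorem dce_b213e2e41084 : _root_.True := by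
  try have : _root_.True := by simp only [_root_.Cfsg.Agent.H694.phA.eq_1]
  try have : _root_.True := by simp only [_root_.Cfsg.Agent.H694.cAd.eq_1]
  try have : _root_.True := by simp only [_root_.Cfsg.Agent.H694.ev.eq_1]
  exact _root_.True.intro
end

-- part: H694/CoxBD
section
set_option linter.all false
open scoped Cfsg.Agent.FastGrp

/-!
# Parity data for the Coxeter groups of types `B` and `D`: the complement of the first node
-/

set_option autoImplicit false

namespace Cfsg.Agent.H694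

open Cfsg.Agent.ChevalleyStructure.CoxeterGeom Cfsg.Agent.Tits.Core Cfsg.Agent.Tits.OppRes
open Cfsg.Agent.Nodes

/-- the sign of a signed index -/
def sn (b : Bool) : ℤ := if b then 1 else -1

/-- the rank function on signed indices -/
def rkB (n : ℕ) (x : Fin n × Bool) : ℕ := if x.2 then x.1 else 2 * n - 1 - x.1

theorem card_signed (n : ℕ) : Nat.card (Fin n × Bool) = 2 * n := by
  rw [Nat.card_prod, Nat.card_eq_fintype_card, Nat.card_eq_fintype_card, Fintype.card_fin,
    Fintype.card_bool, mul_comm]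

/-- the standard inner product -/
def ip {n : ℕ} (u v : Fin n → ℤ) : ℤ := ∑ k, u k * v k

theorem ip_comm {n : ℕ} (u v : Fin n → ℤ) : ip u v = ip v u :=
  Finset.sum_congr rfl fun _ _ => mul_comm _ _

theorem ip_add {n : ℕ} (u v w : Fin n → ℤ) : ip u (v + w) = ip u v + ip u w := by
  simp only [ip, Pi.add_apply, mul_add, Finset.sum_add_distrib]

theorem ip_sub {n : ℕ} (u v w : Fin n → ℤ) : ip (u - v) w = ip u w - ip v w := by
  simp only [ip, Pi.sub_apply, sub_mul, Finset.sum_sub_distrib]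

theorem ip_smul {n : ℕ} (c : ℤ) (u v : Fin n → ℤ) : ip (c • u) v = c * ip u v := by
  simp only [ip, Pi.smul_apply, smul_eq_mul, Finset.mul_sum, mul_assoc]

theorem ip_wt {n : ℕ} (u : Fin n → ℤ) (x : Fin n × Bool) : ip u (TypeC.wt x) = sn x.2 * u x.1 := by
  unfold ip sn
  simp only [TypeC.wt_apply, mul_ite, mul_zero, Finset.sum_ite_eq', Finset.mem_univ, if_true]
  split_ifs <;> ring

/-- the functional of a signed index -/
def phB (n : ℕ) (x : Fin n × Bool) (j : Fin n) : ℤ := sn x.2 * TypeC.bt j x.1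

theorem phB_eq {n : ℕ} (x : Fin n × Bool) (j : Fin n) : phB n x j = ip (TypeC.wt x) (TypeC.bt j) := by
  rw [ip_comm, ip_wt]
  rfl

theorem ip_btC {n : ℕ} (u : Fin n → ℤ) (i : Fin n) :
    ip u (TypeC.bt i) = (if (i : ℕ) + 1 < n then 1 else 2) * TypeC.Cf i u := by
  rw [TypeC.bt, ip_add, ip_wt, ip_wt]
  unfold TypeC.nx TypeC.Cf sn
  split_ifs <;> simp_all <;> ring

theorem phB_sg {n : ℕ} (i : Fin n) (x : Fin n × Bool) (j : Fin n) :
    phB n (TypeC.sg i x) j = phB n x j - TypeC.A n i j * phB n x i := by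
  rw [phB_eq, phB_eq, phB_eq, TypeC.wt_sg, ip_sub, ip_smul, TypeC.A, ip_comm (TypeC.bt i),
    ip_btC (TypeC.bt j) i, ip_btC (TypeC.wt x) i]
  ring

theorem sgC_fst {n : ℕ} (i : Fin n) (x : Fin n × Bool) : ((TypeC.sg i x).1 : ℕ) =
    if (i : ℕ) + 1 < n then (if (x.1 : ℕ) = i then (i : ℕ) + 1 else
      if (x.1 : ℕ) = (i : ℕ) + 1 then (i : ℕ) else (x.1 : ℕ)) else (x.1 : ℕ) := by
  unfold TypeC.sg
  simp only [Fin.ext_iff]
  split_ifs <;> simp_all

theorem sgC_snd {n : ℕ} (i : Fin n) (x : Fin n × Bool) : (TypeC.sg i x).2 =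
    if (i : ℕ) + 1 < n then x.2 else if (x.1 : ℕ) = i then !x.2 else x.2 := by
  unfold TypeC.sg
  simp only [Fin.ext_iff]
  split_ifs <;> simp_all

theorem phB_injective (n : ℕ) : Function.Injective (phB n) := by
  rintro ⟨k, b⟩ ⟨l, c⟩ h
  have h1 := k.2
  have h2 := l.2
  have h3 := congrFun h k
  have h4 := congrFun h l
  simp only [phB, sn, TypeC.bt_apply] at h3 h4
  rw [Prod.mk.injEq, Fin.ext_iff]
  cases b <;> cases c <;> simp only [if_true, if_false, and_true, and_false,
    Bool.false_eq_true, reduceCtorEq] at h3 h4 ⊢ <;> split_ifs at h3 h4 <;> omega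

theorem conn_B {n : ℕ} (hn : 2 ≤ n) (y : Fin n × Bool) (hy : y ≠ (⟨0, by omega⟩, true)) :
    ∃ i, rkB n (TypeC.sg i y) < rkB n y := by
  obtain ⟨k, b⟩ := y
  have h1 := k.2
  unfold rkB
  simp only [sgC_fst, sgC_snd]
  cases b with
  | true =>
    have hk : (k : ℕ) ≠ 0 := by
      intro h0
      exact hy (by rw [Prod.mk.injEq]; exact ⟨Fin.ext h0, rfl⟩)
    refine ⟨⟨k - 1, by omega⟩, ?_⟩
    have e1 : (k : ℕ) - 1 + 1 < n := by omega
    have e2 : (k : ℕ) ≠ k - 1 := by omega
    have e3 : (k : ℕ) = k - 1 + 1 := by omega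
    simp only [e1, e2, if_true, if_false]
    rw [if_pos e3]
    omega
  | false =>
    refine ⟨k, ?_⟩
    by_cases h : (k : ℕ) + 1 < n
    · simp only [h, if_true]
      simp only [Bool.false_eq_true, if_false]
      omega
    · simp only [h, if_false, Bool.not_false, if_true]
      simp only [Bool.false_eq_true, if_false]
      omega

/-- the dominant functional -/
def cB (n : ℕ) (j : Fin n) : ℤ := if (j : ℕ) = 0 then 1 else 0

theorem cB_eq_zero {n : ℕ} {j : Fin n} : cB n j = 0 ↔ (j : ℕ) ≠ 0 := by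
  unfold cB
  split_ifs <;> simp_all

theorem card_three {Y : Type*} (a b c : Y) (hab : a ≠ b) (hac : a ≠ c) (hbc : b ≠ c) (p : Y → Prop)
    (h : ∀ y, p y ↔ y = a ∨ y = b ∨ y = c) : Nat.card {y : Y // p y} = 3 := by
  classical
  have h1 : Nat.card {y : Y // p y} = ({a, b, c} : Finset Y).card := by
    rw [← Nat.card_eq_finsetCard]
    refine Nat.card_congr (Equiv.subtypeEquivRight fun y => ?_)
    rw [h]
    simp
  rw [h1, Finset.card_eq_three.2 ⟨a, b, c, hab, hac, hbc, rfl⟩]

theorem parity_B {n : ℕ} (hn : 2 ≤ n) {W : Type*} [Group W] [Finite W]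
    (cs : CoxeterSystem (CoxeterMatrix.B n) W) :
    (WJ cs {i | cB n i = 0}).index = 2 * n ∧
      Nat.card (DoubleCoset.Quotient (WJ cs {i | cB n i = 0} : Set W)
        (WJ cs {i | cB n i = 0} : Set W)) = 3 := by
  have hy0 : phB n (⟨0, by omega⟩, true) = cB n := by
    funext j
    have := j.2
    simp only [phB, sn, TypeC.bt_apply, cB, if_true]
    split_ifs <;> first | omega | contradiction
  obtain ⟨h1, h2⟩ := count cs (TypeC.isCartan n) (c := cB n) (by
    intro i
    unfold cB
    split_ifs <;> norm_num) (phB n) (phB_injective n) (⟨0, by omega⟩, true) hy0 TypeC.sg phB_sg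
    (rkB n) (conn_B hn)
  refine ⟨h1.trans (card_signed n), (h2 _).trans ?_⟩
  refine card_three ((⟨0, by omega⟩ : Fin n), true) ((⟨1, by omega⟩ : Fin n), true)
    ((⟨0, by omega⟩ : Fin n), false) (by simp) (by simp) (by simp) _ ?_
  rintro ⟨k, b⟩
  have hk := k.2
  simp only [Prod.mk.injEq, Fin.ext_iff]
  constructor
  · intro h3
    cases b with
    | true =>
      by_contra hcon
      have h5 : (k : ℕ) ≠ 0 ∧ (k : ℕ) ≠ 1 := by simpa using hcon
      have h4 := h3 ⟨k - 1, by omega⟩ (cB_eq_zero.2 (by simp only; omega))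
      simp only [phB, sn, TypeC.bt_apply] at h4
      simp only [if_true] at h4
      split_ifs at h4 <;> omega
    | false =>
      by_contra hcon
      have h5 : (k : ℕ) ≠ 0 := by simpa using hcon
      have h4 := h3 k (cB_eq_zero.2 h5)
      simp only [phB, sn, TypeC.bt_apply] at h4
      simp only [if_true, Bool.false_eq_true, if_false] at h4
      split_ifs at h4 <;> omega
  · intro h3 i hi
    have hi' := i.2
    have hi2 : (i : ℕ) ≠ 0 := cB_eq_zero.1 hi
    simp only [phB, sn, TypeC.bt_apply]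
    cases b
    · have h5 : (k : ℕ) = 0 := by simpa using h3
      simp only [Bool.false_eq_true, if_false]
      split_ifs <;> omega
    · have h5 : (k : ℕ) = 0 ∨ (k : ℕ) = 1 := by simpa using h3
      simp only [if_true]
      split_ifs <;> omega

theorem parity_B2 {W : Type*} [Group W] [Finite W] (cs : CoxeterSystem (CoxeterMatrix.B 2) W) :
    Nat.card (DoubleCoset.Quotient (WJ cs {i | cB 2 i ≠ 0} : Set W)
        (WJ cs {i | cB 2 i = 0} : Set W)) = 2 := by
  have hy0 : phB 2 (0, true) = cB 2 := by decide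
  obtain ⟨-, h2⟩ := count cs (TypeC.isCartan 2) (c := cB 2) (by decide) (phB 2) (phB_injective 2)
    (0, true) hy0 TypeC.sg phB_sg (rkB 2) (conn_B (by norm_num))
  rw [h2]
  have h3 : ∀ y : Fin 2 × Bool, (∀ i ∈ {i | cB 2 i ≠ 0}, 0 ≤ phB 2 y i) ↔
      (∀ i : Fin 2, cB 2 i ≠ 0 → 0 ≤ phB 2 y i) := fun y => Iff.rfl
  rw [Nat.card_congr (Equiv.subtypeEquivRight h3), Nat.card_eq_fintype_card]
  decide

/-! ### Type `D` -/

/-- the functional of a signed index -/
def phD (n : ℕ) (x : Fin (n + 2) × Bool) (j : Fin (n + 2)) : ℤ := sn x.2 * TypeD.bt j x.1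

theorem phD_eq {n : ℕ} (x : Fin (n + 2) × Bool) (j : Fin (n + 2)) :
    phD n x j = ip (TypeC.wt x) (TypeD.bt j) := by
  rw [ip_comm, ip_wt]
  rfl

theorem ip_btD {n : ℕ} (u : Fin (n + 2) → ℤ) (i : Fin (n + 2)) :
    ip u (TypeD.bt i) = TypeD.Cf i u := by
  rw [TypeD.bt, ip_add, ip_wt, ip_wt]
  unfold TypeD.nx TypeD.Cf sn
  split_ifs <;> simp_all <;> ring

theorem phD_sg {n : ℕ} (i : Fin (n + 2)) (x : Fin (n + 2) × Bool) (j : Fin (n + 2)) :
    phD n (TypeD.sg i x) j = phD n x j - TypeD.A n i j * phD n x i := by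
  rw [phD_eq, phD_eq, phD_eq, TypeD.wt_sg, ip_sub, ip_smul, TypeD.A, ip_comm (TypeD.bt i),
    ip_btD (TypeD.bt j) i, ip_btD (TypeC.wt x) i]
  ring

theorem sgD_fst {n : ℕ} (i : Fin (n + 2)) (x : Fin (n + 2) × Bool) : ((TypeD.sg i x).1 : ℕ) =
    if (i : ℕ) + 1 < n + 2 then (if (x.1 : ℕ) = i then (i : ℕ) + 1 else
      if (x.1 : ℕ) = (i : ℕ) + 1 then (i : ℕ) else (x.1 : ℕ)) else
      (if (x.1 : ℕ) = i then n else if (x.1 : ℕ) = n then (i : ℕ) else (x.1 : ℕ)) := by
  unfold TypeD.sg TypeD.pd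
  simp only [Fin.ext_iff]
  split_ifs <;> simp_all

theorem sgD_snd {n : ℕ} (i : Fin (n + 2)) (x : Fin (n + 2) × Bool) : (TypeD.sg i x).2 =
    if (i : ℕ) + 1 < n + 2 then x.2 else if (x.1 : ℕ) = i ∨ (x.1 : ℕ) = n then !x.2 else x.2 := by
  unfold TypeD.sg TypeD.pd
  simp only [Fin.ext_iff]
  split_ifs <;> simp_all

theorem phD_injective (n : ℕ) : Function.Injective (phD n) := by
  intro x y h
  apply TypeC.wt_injective
  have h1 : ∀ i : Fin (n + 2), TypeD.Cf i (TypeC.wt x) = TypeD.Cf i (TypeC.wt y) := by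
    intro i
    rw [← ip_btD, ← ip_btD, ← phD_eq, ← phD_eq, h]
  have h2 : ∀ d : ℕ, ∀ k : Fin (n + 2), (k : ℕ) + d = n + 1 →
      TypeC.wt x k - TypeC.wt y k = TypeC.wt x (Fin.last (n + 1)) - TypeC.wt y (Fin.last (n + 1)) := by
    intro d
    induction d with
    | zero =>
      intro k hk
      have : k = Fin.last (n + 1) := Fin.ext (by simpa using hk)
      rw [this]
    | succ d ih =>
      intro k hk
      have h3 : (k : ℕ) + 1 < n + 2 := by omega
      have h4 := h1 k
      unfold TypeD.Cf at h4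
      rw [dif_pos h3, dif_pos h3] at h4
      have h5 := ih ⟨k + 1, h3⟩ (by simp only; omega)
      linarith
  have h3 : TypeC.wt x (Fin.last (n + 1)) - TypeC.wt y (Fin.last (n + 1)) = 0 := by
    have h4 := h1 (Fin.last (n + 1))
    unfold TypeD.Cf at h4
    have h5 : ¬ ((Fin.last (n + 1) : Fin (n + 2)) : ℕ) + 1 < n + 2 := by simp
    rw [dif_neg h5, dif_neg h5] at h4
    have h6 := h2 1 (TypeD.pd n) rfl
    linarith
  funext k
  have h4 := h2 (n + 1 - k) k (by have := k.2; omega)
  rw [h3] at h4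
  linarith

theorem conn_D {n : ℕ} (y : Fin (n + 2) × Bool) (hy : y ≠ (⟨0, by omega⟩, true)) :
    ∃ i, rkB (n + 2) (TypeD.sg i y) < rkB (n + 2) y := by
  obtain ⟨k, b⟩ := y
  have h1 := k.2
  unfold rkB
  simp only [sgD_fst, sgD_snd]
  cases b with
  | true =>
    have hk : (k : ℕ) ≠ 0 := by
      intro h0
      exact hy (by rw [Prod.mk.injEq]; exact ⟨Fin.ext h0, rfl⟩)
    refine ⟨⟨k - 1, by omega⟩, ?_⟩
    have e1 : (k : ℕ) - 1 + 1 < n + 2 := by omega
    have e2 : (k : ℕ) ≠ k - 1 := by omega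
    have e3 : (k : ℕ) = k - 1 + 1 := by omega
    simp only [e1, e2, if_true, if_false]
    rw [if_pos e3]
    omega
  | false =>
    refine ⟨k, ?_⟩
    by_cases h : (k : ℕ) + 1 < n + 2
    · simp only [h, if_true]
      simp only [Bool.false_eq_true, if_false]
      omega
    · simp only [h, if_false, Bool.not_false, if_true, true_or]
      simp only [Bool.false_eq_true, if_false]
      omega

theorem parity_D {n : ℕ} (hn : 1 ≤ n) {W : Type*} [Group W] [Finite W]
    (cs : CoxeterSystem (TypeD.M n) W) :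
    (WJ cs {i | cB (n + 2) i = 0}).index = 2 * (n + 2) ∧
      Nat.card (DoubleCoset.Quotient (WJ cs {i | cB (n + 2) i = 0} : Set W)
        (WJ cs {i | cB (n + 2) i = 0} : Set W)) = 3 := by
  have hy0 : phD n (⟨0, by omega⟩, true) = cB (n + 2) := by
    funext j
    have := j.2
    simp only [phD, sn, TypeD.bt_apply, cB, if_true]
    split_ifs <;> first | omega | contradiction
  obtain ⟨h1, h2⟩ := count cs (TypeD.isCartan n) (c := cB (n + 2)) (by
    intro i
    unfold cB
    split_ifs <;> norm_num) (phD n) (phD_injective n) (⟨0, by omega⟩, true) hy0 TypeD.sg phD_sg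
    (rkB (n + 2)) conn_D
  refine ⟨h1.trans (card_signed (n + 2)), (h2 _).trans ?_⟩
  refine card_three ((⟨0, by omega⟩ : Fin (n + 2)), true) ((⟨1, by omega⟩ : Fin (n + 2)), true)
    ((⟨0, by omega⟩ : Fin (n + 2)), false) (by simp) (by simp) (by simp) _ ?_
  rintro ⟨k, b⟩
  have hk := k.2
  simp only [Prod.mk.injEq, Fin.ext_iff]
  constructor
  · intro h3
    cases b with
    | true =>
      by_contra hcon
      have h5 : (k : ℕ) ≠ 0 ∧ (k : ℕ) ≠ 1 := by simpa using hcon
      have h4 := h3 ⟨k - 1, by omega⟩ (cB_eq_zero.2 (by simp only; omega))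
      simp only [phD, sn, TypeD.bt_apply] at h4
      simp only [if_true] at h4
      split_ifs at h4 <;> omega
    | false =>
      by_contra hcon
      have h5 : (k : ℕ) ≠ 0 := by simpa using hcon
      have h4 := h3 k (cB_eq_zero.2 h5)
      simp only [phD, sn, TypeD.bt_apply] at h4
      simp only [if_true, Bool.false_eq_true, if_false] at h4
      split_ifs at h4 <;> omega
  · intro h3 i hi
    have hi' := i.2
    have hi2 : (i : ℕ) ≠ 0 := cB_eq_zero.1 hi
    simp only [phD, sn, TypeD.bt_apply]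
    cases b
    · have h5 : (k : ℕ) = 0 := by simpa using h3
      simp only [Bool.false_eq_true, if_false]
      split_ifs <;> omega
    · have h5 : (k : ℕ) = 0 ∨ (k : ℕ) = 1 := by simpa using h3
      simp only [if_true]
      split_ifs <;> omega

end Cfsg.Agent.H694

private theorem dce_b082a2ba93f8 : _root_.True := by
  try have : _root_.True := by simp only [_root_.Cfsg.Agent.Nodes.TypeD.A.eq_1]
  try have : _root_.True := by simp only [_root_.Cfsg.Agent.H694.cB.eq_1]
  try have : _root_.True := by simp only [_root_.Cfsg.Agent.Nodes.TypeC.A.eq_1]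
  try have : _root_.True := by simp only [_root_.Cfsg.Agent.H694.sn.eq_1]
  try have : _root_.True := by simp only [_root_.Cfsg.Agent.H694.ip.eq_1]
  try have : _root_.True := by simp only [_root_.Cfsg.Agent.H694.phB.eq_1]
  try have : _root_.True := by simp only [_root_.Cfsg.Agent.H694.phD.eq_1]
  exact _root_.True.intro
end
end
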