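import Mathlib
import Cfsg.Agent.FastGrp
import Cfsg.Agent.Prune
set_option linter.all false
prune_inst 0x7f00000000000000000000000000000000000000000000000000000000000000000000000000000000000000000000000000000000000000000000000000000000000000000000000000000000000000003fffffffffffffffffffffffffffbeffbdffffffff
open scoped Cfsg.Agent.FastGrp

/-!
# The local subgroup of a real element

`Cst y`: the elements mapping `y` to `y` or `y⁻¹`.
`LocJ N y K`: `y ∈ N` real of odd order, `K ≤ C_N(y)` of order prime to the order of `y` and of odd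
index in `C_N(y)`, normalized by `Cst y`.
-/

set_option autoImplicit false

namespace Cfsg.Agent.H694

/-- elements mapping `y` to `y` or `y⁻¹` -/
def Cst {J : Type*} [Group J] (y : J) : Subgroup J where
  carrier := {g | g * y * g⁻¹ = y ∨ g * y * g⁻¹ = y⁻¹}
  one_mem' := Or.inl (by simp)
  mul_mem' := by
    intro a b ha hb
    have h1 : a * b * y * (a * b)⁻¹ = a * (b * y * b⁻¹) * a⁻¹ := by group
    have h2 : a * y⁻¹ * a⁻¹ = (a * y * a⁻¹)⁻¹ := by group
    show a * b * y * (a * b)⁻¹ = y ∨ a * b * y * (a * b)⁻¹ = y⁻¹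
    rw [h1]
    rcases hb with hb | hb
    · rw [hb]
      exact ha
    · rw [hb, h2]
      rcases ha with ha | ha
      · rw [ha]
        exact Or.inr rfl
      · rw [ha, inv_inv]
        exact Or.inl rfl
  inv_mem' := by
    intro a ha
    show a⁻¹ * y * a⁻¹⁻¹ = y ∨ a⁻¹ * y * a⁻¹⁻¹ = y⁻¹
    rcases ha with ha | ha
    · left
      nth_rewrite 1 [← ha]
      group
    · right
      have h1 : y = (a * y * a⁻¹)⁻¹ := by rw [ha, inv_inv]
      nth_rewrite 1 [h1]
      group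

theorem mem_Cst {J : Type*} [Group J] {y g : J} :
    g ∈ Cst y ↔ g * y * g⁻¹ = y ∨ g * y * g⁻¹ = y⁻¹ := Iff.rfl

/-- powers of elements of odd exponent invert -/
theorem inv_pow_odd {J : Type*} [Group J] {y n : J} (h : n * y * n⁻¹ = y⁻¹) {b : ℕ} (hb : Odd b) :
    n ^ b * y * (n ^ b)⁻¹ = y⁻¹ := by
  obtain ⟨k, rfl⟩ := hb
  have h2 : ∀ k : ℕ, n ^ (2 * k) * y * (n ^ (2 * k))⁻¹ = y := by
    intro k
    induction k with
    | zero => simp
    | succ k ih =>
      have e1 : n ^ (2 * (k + 1)) * y * (n ^ (2 * (k + 1)))⁻¹ =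
          n ^ (2 * k) * (n * (n * y * n⁻¹) * n⁻¹) * (n ^ (2 * k))⁻¹ := by
        rw [mul_add, mul_one, pow_add, pow_two]
        group
      have e2 : n * (n * y * n⁻¹) * n⁻¹ = y := by
        rw [h]
        have : n * y⁻¹ * n⁻¹ = (n * y * n⁻¹)⁻¹ := by group
        rw [this, h, inv_inv]
      rw [e1, e2, ih]
  have e1 : n ^ (2 * k + 1) * y * (n ^ (2 * k + 1))⁻¹ = n * (n ^ (2 * k) * y * (n ^ (2 * k))⁻¹) * n⁻¹ := by
    rw [pow_succ']
    group
  rw [e1, h2, h]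

/-- an element of a normal subgroup of odd index -/
theorem mem_of_two_pow {C : Type*} [Group C] {K : Subgroup C} [K.Normal] (h : Odd K.index)
    {f : C} {j : ℕ} (hf : f ^ 2 ^ j = 1) : f ∈ K := by
  rw [← QuotientGroup.eq_one_iff]
  have h1 : ((f : C ⧸ K)) ^ K.index = 1 := by
    rw [Subgroup.index]
    exact pow_card_eq_one'
  have h2 : ((f : C ⧸ K)) ^ 2 ^ j = 1 := by
    rw [← QuotientGroup.mk_pow, hf, QuotientGroup.mk_one]
  have h3 : Nat.Coprime K.index (2 ^ j) := Nat.Coprime.pow_right j (Nat.coprime_two_right.2 h)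
  rw [← orderOf_dvd_iff_pow_eq_one] at h1 h2
  exact orderOf_eq_one_iff.1 (Nat.eq_one_of_dvd_coprimes h3 h1 h2)

theorem exists_E_top {A : Type*} [Group A] [Finite A] (N K : Subgroup A) [hNn : N.Normal]
    [hKn : K.Normal] (y : A) (hyN : y ∈ N) (hA : ∀ g, g * y * g⁻¹ = y ∨ g * y * g⁻¹ = y⁻¹)
    (ho : Odd (orderOf y)) (hreal : ∃ n ∈ N, n * y * n⁻¹ = y⁻¹) (hKN : K ≤ N)
    (hK : ∀ k ∈ K, k * y = y * k) (hcop : (Nat.card K).Coprime (orderOf y))
    (hidx : Odd (K.relIndex (N ⊓ Subgroup.centralizer {y}))) :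
    ∃ E Q : Subgroup A, Odd E.index ∧ y ∈ E ∧ K ≤ Q ∧ Q ≤ E ∧ (∀ q ∈ Q, q * y = y * q) ∧
      (Nat.card Q).Coprime (orderOf y) ∧ (∀ e ∈ E, e * y = y * e → ∃ q ∈ Q, ∃ i : ℕ, e = q * y ^ i) ∧
      (∀ q ∈ Q, q ∈ N → q ∈ K) ∧ ∃ t ∈ E, t ∈ N ∧ t * y * t⁻¹ = y⁻¹ := by
  classical
  have h2 : Fact (Nat.Prime 2) := ⟨Nat.prime_two⟩
  obtain ⟨Φ⟩ : Nonempty (Sylow 2 A) := inferInstance
  set C := Subgroup.centralizer ({y} : Set A) with hC
  have hmemC : ∀ g, g ∈ C ↔ g * y = y * g := fun g => Subgroup.mem_centralizer_singleton_iff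
  have hZn : (Subgroup.zpowers y).Normal := by
    constructor
    rintro x ⟨i, rfl⟩ g
    have h1 : g * y ^ i * g⁻¹ = (g * y * g⁻¹) ^ i := by rw [conj_zpow]
    show g * y ^ i * g⁻¹ ∈ _
    rw [h1]
    rcases hA g with h | h
    · rw [h]
      exact ⟨i, rfl⟩
    · rw [h]
      exact Subgroup.zpow_mem _ (Subgroup.inv_mem _ (Subgroup.mem_zpowers y)) i
  refine ⟨(Φ : Subgroup A) ⊔ (K ⊔ Subgroup.zpowers y), ((Φ : Subgroup A) ⊓ C) ⊔ K, ?_, ?_,
    le_sup_right, ?_, ?_, ?_, ?_, ?_, ?_⟩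
  · have h1 : ((Φ : Subgroup A) ⊔ (K ⊔ Subgroup.zpowers y)).index ∣ (Φ : Subgroup A).index :=
      Subgroup.index_dvd_of_le le_sup_left
    have h3 : Odd (Φ : Subgroup A).index := by
      have := Φ.not_dvd_index
      rwa [← even_iff_two_dvd, Nat.not_even_iff_odd] at this
    exact h3.of_dvd_nat h1
  · exact Subgroup.mem_sup_right (Subgroup.mem_sup_right (Subgroup.mem_zpowers y))
  · exact sup_le (inf_le_left.trans le_sup_left) (le_sup_left.trans le_sup_right)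
  · have hle : ((Φ : Subgroup A) ⊓ C) ⊔ K ≤ C := sup_le inf_le_right fun k hk => (hmemC k).2 (hK k hk)
    exact fun q hq => (hmemC q).1 (hle hq)
  · -- the order
    have h1 : Nat.card K * K.relIndex (((Φ : Subgroup A) ⊓ C) ⊔ K) =
        Nat.card ↥(((Φ : Subgroup A) ⊓ C) ⊔ K) := by
      have := Subgroup.relIndex_mul_relIndex ⊥ K (((Φ : Subgroup A) ⊓ C) ⊔ K) bot_le le_sup_right
      rwa [Subgroup.relIndex_bot_left, Subgroup.relIndex_bot_left] at this
    rw [← h1, Subgroup.relIndex_sup_right]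
    refine Nat.Coprime.mul_left hcop ?_
    have h3 : K.relIndex ((Φ : Subgroup A) ⊓ C) ∣ Nat.card ↥((Φ : Subgroup A) ⊓ C) :=
      Subgroup.relIndex_dvd_card _ _
    have h4 : IsPGroup 2 ↥((Φ : Subgroup A) ⊓ C) := Φ.2.to_le inf_le_left
    obtain ⟨j, hj⟩ := IsPGroup.iff_card.1 h4
    rw [hj] at h3
    exact Nat.Coprime.coprime_dvd_left h3 (Nat.Coprime.pow_left j (Nat.coprime_two_left.2 ho))
  · intro e he hcomm
    rw [Subgroup.mem_sup_of_normal_right] at he
    obtain ⟨f, hf, z, hz, rfl⟩ := he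
    rw [Subgroup.mem_sup_of_normal_right] at hz
    obtain ⟨k, hk, w, ⟨i, rfl⟩, rfl⟩ := hz
    have hkC := (hmemC k).2 (hK k hk)
    have hyC : y ∈ C := (hmemC y).2 rfl
    have h3 : k * y ^ i ∈ C := C.mul_mem hkC (C.zpow_mem hyC i)
    have hfC : f ∈ C := by
      have h4 := C.mul_mem ((hmemC _).2 hcomm) (C.inv_mem h3)
      have h5 : f * (k * y ^ i) * (k * y ^ i)⁻¹ = f := mul_inv_cancel_right _ _
      rw [← h5]
      exact h4
    obtain ⟨n, hn⟩ : ∃ n : ℕ, y ^ n = y ^ i := by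
      have : y ^ i ∈ Submonoid.powers y := by
        rw [mem_powers_iff_mem_zpowers]
        exact ⟨i, rfl⟩
      exact this
    refine ⟨f * k, Subgroup.mul_mem _ (Subgroup.mem_sup_left ⟨hf, hfC⟩) (Subgroup.mem_sup_right hk), n, ?_⟩
    show f * (k * y ^ i) = f * k * y ^ n
    rw [hn, mul_assoc]
  · intro q hq hqN
    rw [Subgroup.mem_sup_of_normal_right] at hq
    obtain ⟨f, ⟨hf, hfC⟩, k, hk, rfl⟩ := hq
    refine K.mul_mem ?_ hk
    have hfN : f ∈ N := by
      have := N.mul_mem hqN (N.inv_mem (hKN hk))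
      simpa using this
    obtain ⟨j, hj⟩ := Φ.2 ⟨f, hf⟩
    have hj' : f ^ 2 ^ j = 1 := congrArg Subtype.val hj
    have h3 : (K.subgroupOf (N ⊓ C)).Normal := inferInstance
    have h4 := mem_of_two_pow (K := K.subgroupOf (N ⊓ C)) hidx (f := ⟨f, hfN, hfC⟩) (j := j)
      (Subtype.ext hj')
    exact Subgroup.mem_subgroupOf.1 h4
  · obtain ⟨n, hnN, hn⟩ := hreal
    obtain ⟨a, b, hb, hab⟩ := Nat.exists_eq_two_pow_mul_odd (orderOf_pos n).ne'
    have hn' := inv_pow_odd hn hb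
    have hn2 : (n ^ b) ^ 2 ^ a = 1 := by
      rw [← pow_mul, mul_comm, ← hab, pow_orderOf_eq_one]
    have hp : IsPGroup 2 (Subgroup.zpowers (n ^ b)) := by
      have h3 : orderOf (n ^ b) ∣ 2 ^ a := orderOf_dvd_of_pow_eq_one hn2
      obtain ⟨c, -, hc⟩ := (Nat.dvd_prime_pow Nat.prime_two).1 h3
      exact IsPGroup.of_card (n := c) (by rw [Nat.card_zpowers, hc])
    obtain ⟨P, hP⟩ := hp.exists_le_sylow
    obtain ⟨g, hg⟩ := MulAction.exists_smul_eq A P Φ
    refine ⟨g * n ^ b * g⁻¹, ?_, hNn.conj_mem _ (N.pow_mem hnN b) g, ?_⟩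
    · refine Subgroup.mem_sup_left ?_
      rw [← hg]
      have h3 : n ^ b ∈ (P : Subgroup A) := hP (Subgroup.mem_zpowers _)
      exact Subgroup.smul_mem_pointwise_smul _ (MulAut.conj g) _ h3
    · have e1 : g * n ^ b * g⁻¹ * y * (g * n ^ b * g⁻¹)⁻¹ =
          g * (n ^ b * (g⁻¹ * y * g) * (n ^ b)⁻¹) * g⁻¹ := by group
      have hg' : g⁻¹ * y * g = y ∨ g⁻¹ * y * g = y⁻¹ := by
        have := hA g⁻¹
        rwa [inv_inv] at this
      rw [e1]
      rcases hg' with h | h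
      · rw [h, hn']
        have h3 : g * y * g⁻¹ = y := by
          nth_rewrite 1 [← h]
          group
        have h4 : g * y⁻¹ * g⁻¹ = (g * y * g⁻¹)⁻¹ := by group
        rw [h4, h3]
      · rw [h]
        have h3 : n ^ b * y⁻¹ * (n ^ b)⁻¹ = (n ^ b * y * (n ^ b)⁻¹)⁻¹ := by group
        rw [h3, hn', inv_inv]
        have h4 : y = (g⁻¹ * y * g)⁻¹ := by rw [h, inv_inv]
        nth_rewrite 1 [h4]
        group

/-- Local data for a real element of odd order. -/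
structure LocJ {J : Type*} [Group J] (N : Subgroup J) (y : J) (K : Subgroup J) : Prop where
  mem : y ∈ N
  ne : y ≠ 1
  odd : Odd (orderOf y)
  real : ∃ n ∈ N, n * y * n⁻¹ = y⁻¹
  le : K ≤ N
  comm : ∀ k ∈ K, k * y = y * k
  cop : (Nat.card K).Coprime (orderOf y)
  idx : Odd (K.relIndex (N ⊓ Subgroup.centralizer {y}))
  st : ∀ g ∈ Cst y, ∀ k ∈ K, g * k * g⁻¹ ∈ K

theorem LocJ.exists_E {J : Type*} [Group J] [Finite J] {N : Subgroup J} [hNn : N.Normal] {y : J}
    {K : Subgroup J} (L : LocJ N y K) :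
    ∃ E Q : Subgroup J, E ≤ Cst y ∧ Odd (E.relIndex (Cst y)) ∧ y ∈ E ∧ K ≤ Q ∧ Q ≤ E ∧
      (∀ q ∈ Q, q * y = y * q) ∧
      (Nat.card Q).Coprime (orderOf y) ∧ (∀ e ∈ E, e * y = y * e → ∃ q ∈ Q, ∃ i : ℕ, e = q * y ^ i) ∧
      (∀ q ∈ Q, q ∈ N → q ∈ K) ∧ ∃ t ∈ E, t ∈ N ∧ t * y * t⁻¹ = y⁻¹ := by
  set A := Cst y with hA
  have hyA : y ∈ A := Or.inl (by simp)
  have hKA : K ≤ A := fun k hk => Or.inl (by rw [L.comm k hk, mul_inv_cancel_right])
  have hKn : (K.subgroupOf A).Normal := by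
    constructor
    intro k hk g
    rw [Subgroup.mem_subgroupOf] at hk ⊢
    exact L.st g g.2 k hk
  have hord : orderOf (⟨y, hyA⟩ : A) = orderOf y := Subgroup.orderOf_mk _ _
  have hcard : Nat.card (K.subgroupOf A) = Nat.card K :=
    Nat.card_congr (Subgroup.subgroupOfEquivOfLe hKA).toEquiv
  obtain ⟨E, Q, h1, h2, h3, h4, h5, h6, h7, h8, t, ht1, ht2, ht3⟩ :=
    exists_E_top (N.subgroupOf A) (K.subgroupOf A) ⟨y, hyA⟩ (Subgroup.mem_subgroupOf.2 L.mem)
      (fun g => by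
        rcases g.2 with h | h
        · exact Or.inl (Subtype.ext h)
        · exact Or.inr (Subtype.ext h)) (by rw [hord]; exact L.odd)
      (by
        obtain ⟨n, hn, hny⟩ := L.real
        exact ⟨⟨n, Or.inr hny⟩, Subgroup.mem_subgroupOf.2 hn, Subtype.ext hny⟩)
      (fun k hk => Subgroup.mem_subgroupOf.2 (L.le (Subgroup.mem_subgroupOf.1 hk)))
      (fun k hk => Subtype.ext (L.comm k (Subgroup.mem_subgroupOf.1 hk)))
      (by rw [hord, hcard]; exact L.cop)
      (by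
        have e1 : N.subgroupOf A ⊓ Subgroup.centralizer {(⟨y, hyA⟩ : A)} =
            (N ⊓ Subgroup.centralizer {y}).subgroupOf A := by
          ext g
          rw [Subgroup.mem_inf, Subgroup.mem_subgroupOf, Subgroup.mem_subgroupOf, Subgroup.mem_inf,
            Subgroup.mem_centralizer_singleton_iff, Subgroup.mem_centralizer_singleton_iff,
            Subtype.ext_iff]
          rfl
        have hCA : N ⊓ Subgroup.centralizer {y} ≤ A := by
          intro g hg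
          have := Subgroup.mem_centralizer_singleton_iff.1 hg.2
          exact Or.inl (by rw [this, mul_inv_cancel_right])
        rw [e1, Subgroup.relIndex_subgroupOf hCA]
        exact L.idx)
  have hmem : ∀ (X : Subgroup A) (g : J), g ∈ X.map A.subtype ↔ ∃ h : g ∈ A, (⟨g, h⟩ : A) ∈ X := by
    intro X g
    constructor
    · rintro ⟨x, hx, rfl⟩
      exact ⟨x.2, hx⟩
    · rintro ⟨h, hx⟩
      exact ⟨_, hx, rfl⟩
  refine ⟨E.map A.subtype, Q.map A.subtype, Subgroup.map_subtype_le _, ?_, (hmem _ _).2 ⟨hyA, h2⟩,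
    ?_, Subgroup.map_mono h4, ?_, ?_, ?_, ?_, (t : J), (hmem _ _).2 ⟨t.2, ht1⟩,
    Subgroup.mem_subgroupOf.1 ht2, ?_⟩
  · rw [Subgroup.relIndex, Subgroup.subgroupOf,
      Subgroup.comap_map_eq_self_of_injective A.subtype_injective]
    exact h1
  · intro k hk
    exact (hmem _ _).2 ⟨hKA hk, h3 (Subgroup.mem_subgroupOf.2 hk)⟩
  · rintro _ ⟨q, hq, rfl⟩
    exact congrArg Subtype.val (h5 q hq)
  · rw [Nat.card_congr (Q.equivMapOfInjective A.subtype A.subtype_injective).symm.toEquiv, ← hord]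
    exact h6
  · rintro _ ⟨e, he, rfl⟩ hcomm
    obtain ⟨q, hq, i, hi⟩ := h7 e he (Subtype.ext hcomm)
    exact ⟨q, ⟨q, hq, rfl⟩, i, congrArg Subtype.val hi⟩
  · rintro _ ⟨q, hq, rfl⟩ hN
    exact Subgroup.mem_subgroupOf.1 (h8 q hq (Subgroup.mem_subgroupOf.2 hN))
  · exact congrArg Subtype.val ht3

end Cfsg.Agent.H694
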